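import Groth.Agent.CycB.PtClosure
import Groth.Prelude.Def_Curv2
import Groth.Agent.S0658
import Mathlib.AlgebraicGeometry.Morphisms.QuasiFinite
import Mathlib.AlgebraicGeometry.Morphisms.Etale
import Mathlib.AlgebraicGeometry.Morphisms.UniversallyOpen

/-!
# Pull-back of generically étale alterations along dominant morphisms of integral schemes
-/

set_option autoImplicit false
universe u
open CategoryTheory CategoryTheory.Limits AlgebraicGeometry TopologicalSpace

namespace K835.AltBC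

open Groth.Agent.CycB.PtClosure

theorem map_genericPoint {X Y : Scheme.{u}} [IrreducibleSpace X] [IrreducibleSpace Y] (p : X ⟶ Y)
    [IsDominant p] : p (genericPoint X) = genericPoint Y := by
  have h1 := (genericPoint_spec X).image p.continuous
  rw [Set.image_univ, p.denseRange.closure_range] at h1
  exact h1.eq (genericPoint_spec Y)

theorem genericPoint_mem {S : Scheme.{u}} [IrreducibleSpace S] {V : S.Opens}
    (hV : (V : Set S).Nonempty) : genericPoint S ∈ V :=
  ((genericPoint_spec S).mem_open_set_iff V.isOpen).2 (by simpa using hV)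

theorem isDominant_of_map {X Y : Scheme.{u}} [IrreducibleSpace Y] (p : X ⟶ Y) (x : X)
    (h : p x = genericPoint Y) : IsDominant p := by
  refine ⟨?_⟩
  have h1 : closure {genericPoint Y} = Set.univ := genericPoint_spec Y
  rw [DenseRange, dense_iff_closure_eq, ← Set.univ_subset_iff, ← h1]
  apply closure_mono
  rintro _ rfl
  exact ⟨x, h⟩

/-- Restriction to opens of the base and pull-back. -/
theorem restrict_of_isPullback {P P₀ S S₀ : Scheme.{u}} {a : P ⟶ P₀} {q : P ⟶ S} {g₀ : P₀ ⟶ S₀}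
    {p : S ⟶ S₀} (H : IsPullback a q g₀ p) {V₀ : S₀.Opens} {V : S.Opens} (hV : V ≤ p ⁻¹ᵁ V₀)
    {R : MorphismProperty Scheme.{u}} [R.IsStableUnderBaseChange] (h : R (g₀ ∣_ V₀)) :
    R (q ∣_ V) := by
  have h1 := (isPullback_morphismRestrict q V).flip.paste_horiz H
  have h2 := (isPullback_morphismRestrict g₀ V₀).flip
  have e : V.ι ≫ p = (S.homOfLE hV ≫ p ∣_ V₀) ≫ V₀.ι := by
    rw [Category.assoc, morphismRestrict_ι, Scheme.homOfLE_ι_assoc]
  rw [e] at h1
  have h3 := IsPullback.of_right' h1 h2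
  exact MorphismProperty.of_isPullback h3 h

open scoped TensorProduct in
/-- An étale algebra over a domain is reduced. -/
theorem isReduced_of_isDomain {R S : Type*} [CommRing R] [CommRing S]
    [Algebra R S] [IsDomain R] [Algebra.Etale R S] : _root_.IsReduced S := by
  have h1 : _root_.IsReduced (FractionRing R ⊗[R] S) :=
    Algebra.FormallyUnramified.isReduced_of_field (FractionRing R) (FractionRing R ⊗[R] S)
  have hinj : Function.Injective (Algebra.TensorProduct.includeRight : S →ₐ[R] FractionRing R ⊗[R] S) :=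
    Algebra.TensorProduct.includeRight_injective (IsFractionRing.injective R (FractionRing R))
  exact isReduced_of_injective (Algebra.TensorProduct.includeRight : S →ₐ[R] FractionRing R ⊗[R] S) hinj

/-- A scheme étale over an integral scheme is reduced. -/
theorem isReduced_of_etale {Q V : Scheme.{u}} (r : Q ⟶ V) [Etale r] [IsIntegral V] : IsReduced Q := by
  have key : ∀ x : Q, _root_.IsReduced (Q.presheaf.stalk x) := by
    intro x
    obtain ⟨_, ⟨V₁, hV₁, rfl⟩, hxV, -⟩ :=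
      V.isBasis_affineOpens.exists_subset_of_mem_open (Set.mem_univ (r x)) isOpen_univ
    obtain ⟨_, ⟨U, hU, rfl⟩, hxU, hUV⟩ :=
      Q.isBasis_affineOpens.exists_subset_of_mem_open (show x ∈ (r ⁻¹ᵁ V₁ : Set Q) from hxV)
        (r ⁻¹ᵁ V₁).isOpen
    have hne : Nonempty V₁ := ⟨⟨_, hxV⟩⟩
    have h := HasRingHomProperty.appLE @AlgebraicGeometry.Etale r ‹_› ⟨V₁, hV₁⟩ ⟨U, hU⟩ hUV
    algebraize [(r.appLE V₁ U hUV).hom]
    have h1 : _root_.IsReduced Γ(Q, U) := isReduced_of_isDomain (R := Γ(V, V₁))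
    let _ : Algebra Γ(Q, U) (Q.presheaf.stalk x) := (Q.presheaf.germ U x hxU).hom.toAlgebra
    have h2 := hU.isLocalization_stalk ⟨x, hxU⟩
    exact isReduced_localizationPreserves (hU.primeIdealOf ⟨x, hxU⟩).asIdeal.primeCompl
      (Q.presheaf.stalk x) h1
  exact isReduced_of_isReduced_stalk _

/-- A closed immersion with open image into a reduced scheme is an open immersion. -/
theorem isOpenImmersion_of_isClosedImmersion {X Y : Scheme.{u}} (i : X ⟶ Y) [IsClosedImmersion i]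
    [IsReduced Y] (h : IsOpen (Set.range i)) : IsOpenImmersion i := by
  let U : Y.Opens := ⟨Set.range i, h⟩
  have hr : Set.range i ⊆ Set.range U.ι := by
    rw [Scheme.Opens.range_ι]
    exact subset_rfl
  let j : X ⟶ U := IsOpenImmersion.lift U.ι i hr
  have hj : j ≫ U.ι = i := IsOpenImmersion.lift_fac _ _ _
  have h1 : IsClosedImmersion (j ≫ U.ι) := hj.symm ▸ inferInstance
  have h2 : IsClosedImmersion j := IsClosedImmersion.of_comp j U.ι
  have h3 : Surjective j := by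
    refine ⟨fun u => ?_⟩
    obtain ⟨x, hx⟩ := u.2
    refine ⟨x, ?_⟩
    have h4 : U.ι (j x) = U.ι u := by
      rw [← Scheme.Hom.comp_apply, hj]
      exact hx
    exact U.ι.isOpenEmbedding.injective h4
  have h4 : IsIso j := isIso_of_isClosedImmersion_of_surjective j
  rw [← hj]
  infer_instance

theorem mem_range_closure {P S : Scheme.{u}} [IsIntegral S] (q : P ⟶ S) {V : S.Opens}
    (hV : genericPoint S ∈ V) [Etale (q ∣_ V)] (x : P) (hx : q x ∈ V) :
    ∃ t : P, q t = genericPoint S ∧ t ⤳ x := by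
  have h1 := Flat.generalizingMap (q ∣_ V)
  let x' : ↥(q ⁻¹ᵁ V).toScheme := ⟨x, hx⟩
  let η : V.toScheme := ⟨genericPoint S, hV⟩
  have h2 : η ⤳ (q ∣_ V) x' := by
    rw [← V.ι.isOpenEmbedding.isInducing.specializes_iff]
    exact (genericPoint_spec S).specializes trivial
  obtain ⟨t, ht, ht'⟩ := h1 h2
  refine ⟨(q ⁻¹ᵁ V).ι t, ?_, ?_⟩
  · have h3 := congrArg (fun m : (q ⁻¹ᵁ V).toScheme ⟶ S => m t) (morphismRestrict_ι q V)
    simp only [Scheme.Hom.comp_apply] at h3
    rw [← h3, ht']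
    rfl
  · have h4 := ht.map (q ⁻¹ᵁ V).ι.continuous
    exact h4

theorem fiber_facts {P S : Scheme.{u}} [IsIntegral S] (q : P ⟶ S) [QuasiCompact q] {V : S.Opens}
    (hV : genericPoint S ∈ V) [Etale (q ∣_ V)] :
    (q ⁻¹' {genericPoint S}).Finite ∧
      ∀ t x : P, q t = genericPoint S → q x = genericPoint S → t ⤳ x → t = x := by
  let η : V.toScheme := ⟨genericPoint S, hV⟩
  have hq : QuasiCompact (q ∣_ V) := inferInstance
  have hlq : LocallyQuasiFinite (q ∣_ V) := Groth.Agent.S0658.locallyQuasiFinite_of_etale _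
  have hc : ∀ t : ↥(q ⁻¹ᵁ V).toScheme, V.ι ((q ∣_ V) t) = q ((q ⁻¹ᵁ V).ι t) := by
    intro t
    have h3 := congrArg (fun m : (q ⁻¹ᵁ V).toScheme ⟶ S => m t) (morphismRestrict_ι q V)
    simpa only [Scheme.Hom.comp_apply] using h3
  have key : ∀ t : P, q t = genericPoint S → ∃ t' : ↥(q ⁻¹ᵁ V).toScheme, (q ⁻¹ᵁ V).ι t' = t ∧
      (q ∣_ V) t' = η := by
    intro t ht
    refine ⟨⟨t, (show q t ∈ V from ht ▸ hV)⟩, rfl, ?_⟩
    apply V.ι.isOpenEmbedding.injective
    rw [hc]
    exact ht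
  constructor
  · have h1 := (q ∣_ V).finite_preimage_singleton η
    refine (h1.image (q ⁻¹ᵁ V).ι).subset ?_
    intro t ht
    obtain ⟨t', h2, h3⟩ := key t ht
    exact ⟨t', h3, h2⟩
  · intro t x ht hx h
    obtain ⟨t', h2, h3⟩ := key t ht
    obtain ⟨x', h4, h5⟩ := key x hx
    have h6 : t' ⤳ x' := by
      rw [← (q ⁻¹ᵁ V).ι.isOpenEmbedding.isInducing.specializes_iff, h2, h4]
      exact h
    have h7 := ((q ∣_ V).isDiscrete_preimage_singleton η).to_subtype
    let a : ↥((q ∣_ V) ⁻¹' {η}) := ⟨t', h3⟩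
    let b : ↥((q ∣_ V) ⁻¹' {η}) := ⟨x', h5⟩
    have h8 : a ⤳ b := (Topology.IsInducing.subtypeVal.specializes_iff).1 h6
    have h9 : a = b := h8.eq
    have h10 : t' = x' := congrArg Subtype.val h9
    rw [← h2, ← h4, h10]

/-- Over a nonempty open of the base the closure of a point of the generic fibre is open. -/
theorem exists_isOpen_closure {P S : Scheme.{u}} [IsIntegral S] (q : P ⟶ S) [QuasiCompact q]
    [UniversallyClosed q] {V : S.Opens} (hV : genericPoint S ∈ V) [Etale (q ∣_ V)] (ξ : P)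
    (hξ : q ξ = genericPoint S) :
    ∃ V₂ : S.Opens, genericPoint S ∈ V₂ ∧ V₂ ≤ V ∧ IsOpen (closure {ξ} ∩ q ⁻¹' (V₂ : Set S)) := by
  obtain ⟨hfin, hinc⟩ := fiber_facts q hV
  let T : Set P := q ⁻¹' {genericPoint S} \ {ξ}
  have hT : T.Finite := hfin.subset Set.sdiff_subset
  let C : Set P := ⋃ t ∈ T, closure {t}
  have hC : IsClosed C := hT.isClosed_biUnion fun t _ => isClosed_closure
  let U : Set P := q ⁻¹' (V : Set S) \ C
  have hU : IsOpen U := (V.isOpen.preimage q.continuous).sdiff hC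
  have h1 : U ⊆ closure {ξ} := by
    rintro x ⟨hxV, hxC⟩
    obtain ⟨t, ht, htx⟩ := mem_range_closure q hV x hxV
    by_cases h : t = ξ
    · subst h
      exact htx.mem_closure
    · exact absurd (Set.mem_biUnion (show t ∈ T from ⟨ht, h⟩) htx.mem_closure) hxC
  have h2 : ξ ∈ U := by
    refine ⟨(show q ξ ∈ V from hξ ▸ hV), fun h => ?_⟩
    obtain ⟨t, ht, htx⟩ := Set.mem_iUnion₂.1 h
    exact ht.2 (hinc t ξ ht.1 hξ (specializes_iff_mem_closure.2 htx))
  let E : Set S := q '' (closure {ξ} \ U)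
  have hE : IsClosed E := q.isClosedMap _ (isClosed_closure.sdiff hU)
  have h3 : genericPoint S ∉ E := by
    rintro ⟨x, ⟨hx, hxU⟩, hxη⟩
    have := hinc ξ x hξ hxη (specializes_iff_mem_closure.2 hx)
    subst this
    exact hxU h2
  refine ⟨V ⊓ ⟨Eᶜ, hE.isOpen_compl⟩, ⟨hV, h3⟩, inf_le_left, ?_⟩
  have h4 : closure {ξ} ∩ q ⁻¹' ((V ⊓ ⟨Eᶜ, hE.isOpen_compl⟩ : S.Opens) : Set S) =
      U ∩ q ⁻¹' (Eᶜ) := by
    ext x
    constructor
    · rintro ⟨hx, hxV, hxE⟩
      refine ⟨?_, hxE⟩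
      by_contra hxU
      exact hxE ⟨x, ⟨hx, hxU⟩, rfl⟩
    · rintro ⟨hx, hxE⟩
      exact ⟨h1 hx, hx.1, hxE⟩
  rw [h4]
  exact hU.inter (hE.isOpen_compl.preimage q.continuous)

/-- Generically étale alterations can be pulled back along dominant morphisms. -/
theorem exists_alt {S S₀ S₀' : Scheme.{u}} [IsIntegral S] [IsIntegral S₀] [IsIntegral S₀'] (p : S ⟶ S₀)
    [IsDominant p] (g₀ : S₀' ⟶ S₀) (h : Curv2.IsAlteration g₀) {V₀ : S₀.Opens}
    (hV₀ : (V₀ : Set S₀).Nonempty) (het : Etale (g₀ ∣_ V₀)) :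
    ∃ (S' : Scheme.{u}) (_ : IsIntegral S') (g : S' ⟶ S) (k : S' ⟶ S₀') (V : S.Opens),
      Curv2.IsAlteration g ∧ (V : Set S).Nonempty ∧ Etale (g ∣_ V) ∧ k ≫ g₀ = g ≫ p ∧
      k (genericPoint S') = genericPoint S₀' := by
  obtain ⟨hprop, -, -, hdom, W₀, hW₀, hfin⟩ := h
  have hpη : p (genericPoint S) = genericPoint S₀ := map_genericPoint p
  have hsurj : Surjective g₀ :=
    surjective_of_isDominant_of_isClosed_range g₀ (g₀.isClosedMap.isClosed_range)
  have H := IsPullback.of_hasPullback g₀ p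
  let q := pullback.snd g₀ p
  obtain ⟨ξ, hξ⟩ := q.surjective (genericPoint S)
  have hV : genericPoint S ∈ p ⁻¹ᵁ V₀ := by
    change p (genericPoint S) ∈ V₀
    rw [hpη]
    exact genericPoint_mem hV₀
  have hW : genericPoint S ∈ p ⁻¹ᵁ W₀ := by
    change p (genericPoint S) ∈ W₀
    rw [hpη]
    exact genericPoint_mem hW₀
  have hq1 : Etale (q ∣_ (p ⁻¹ᵁ V₀)) := restrict_of_isPullback (R := @Etale) H le_rfl het
  have hq2 : IsFinite (q ∣_ (p ⁻¹ᵁ W₀)) := restrict_of_isPullback (R := @IsFinite) H le_rfl hfin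
  obtain ⟨V₂, hV₂, hV₂le, hopen⟩ := exists_isOpen_closure q hV ξ hξ
  have hgη : (ptClι ξ ≫ q) (genericPoint (ptCl ξ)) = genericPoint S := by
    rw [Scheme.Hom.comp_apply, ptClι_genericPoint]
    exact hξ
  refine ⟨ptCl ξ, inferInstance, ptClι ξ ≫ q, ptClι ξ ≫ pullback.fst g₀ p, V₂,
    ⟨inferInstance, inferInstance, inferInstance, isDominant_of_map _ _ hgη, p ⁻¹ᵁ W₀, ⟨_, hW⟩, ?_⟩,
    ⟨_, hV₂⟩, ?_, ?_, ?_⟩
  · have h1 : IsFinite (ptClι ξ ∣_ (q ⁻¹ᵁ p ⁻¹ᵁ W₀)) := inferInstance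
    rw [morphismRestrict_comp]
    exact MorphismProperty.comp_mem @IsFinite _ _ h1 hq2
  · rw [morphismRestrict_comp]
    have h1 : Etale (q ∣_ V₂) := restrict_of_isPullback (R := @Etale) H hV₂le het
    have hne : Nonempty V₂.toScheme := ⟨⟨_, hV₂⟩⟩
    have h2 : IsReduced (q ⁻¹ᵁ V₂).toScheme := isReduced_of_etale (q ∣_ V₂)
    have h3 : IsOpenImmersion (ptClι ξ ∣_ (q ⁻¹ᵁ V₂)) := by
      apply isOpenImmersion_of_isClosedImmersion
      have h4 : Set.range (ptClι ξ ∣_ (q ⁻¹ᵁ V₂)) = (q ⁻¹ᵁ V₂).ι ⁻¹' (closure {ξ}) := by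
        ext x
        constructor
        · rintro ⟨z, rfl⟩
          have h5 := congrArg (fun m : (ptClι ξ ⁻¹ᵁ q ⁻¹ᵁ V₂).toScheme ⟶ pullback g₀ p => m z)
            (morphismRestrict_ι (ptClι ξ) (q ⁻¹ᵁ V₂))
          simp only [Scheme.Hom.comp_apply] at h5
          rw [Set.mem_preimage, h5, ← range_ptClι]
          exact ⟨_, rfl⟩
        · intro hx
          rw [Set.mem_preimage, ← range_ptClι] at hx
          obtain ⟨z, hz⟩ := hx
          refine ⟨⟨z, ?_⟩, ?_⟩
          · change ptClι ξ z ∈ q ⁻¹ᵁ V₂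
            rw [hz]
            exact x.2
          · apply (q ⁻¹ᵁ V₂).ι.isOpenEmbedding.injective
            refine Eq.trans ?_ hz
            exact congrArg (fun m : (ptClι ξ ⁻¹ᵁ q ⁻¹ᵁ V₂).toScheme ⟶ pullback g₀ p => m ⟨z, _⟩)
              (morphismRestrict_ι (ptClι ξ) (q ⁻¹ᵁ V₂))
      rw [h4]
      have h5 : (q ⁻¹ᵁ V₂).ι ⁻¹' (closure {ξ}) = (q ⁻¹ᵁ V₂).ι ⁻¹' (closure {ξ} ∩ q ⁻¹' (V₂ : Set S)) := by
        ext x
        constructor
        · intro hx
          exact ⟨hx, x.2⟩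
        · exact fun hx => hx.1
      rw [h5]
      exact hopen.preimage (q ⁻¹ᵁ V₂).ι.continuous
    have h6 : Etale (ptClι ξ ∣_ (q ⁻¹ᵁ V₂)) := inferInstance
    exact MorphismProperty.comp_mem @Etale _ _ h6 h1
  · rw [Category.assoc, Category.assoc, pullback.condition]
  · -- the image of the generic point
    rw [Scheme.Hom.comp_apply, ptClι_genericPoint]
    have h1 : g₀ (pullback.fst g₀ p ξ) = genericPoint S₀ := by
      rw [← Scheme.Hom.comp_apply, pullback.condition, Scheme.Hom.comp_apply]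
      change p (q ξ) = _
      rw [hξ, hpη]
    have h2 := (fiber_facts g₀ (genericPoint_mem hV₀)).2 (genericPoint S₀') _
      (map_genericPoint g₀) h1 ((genericPoint_spec S₀').specializes trivial)
    exact h2.symm

end K835.AltBC
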