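import Groth.Agent.Subtr.K835.Ref
import Groth.Agent.Flat2D.GeomFib
import Groth.Agent.Flat2G.ProperDim
import Groth.Agent.Fdesc.BaseField
import Groth.Prelude.Def_MoreMor

/-!
# Smooth models of a curve in a family

`Dat f`: schemes `T, B, Y` with morphisms `Y ⟶ B ⟶ T ⟶ S`, a morphism `ν : Y ⟶ X` over `S` and an open
`W` of `X`; `Cart h d' d`: the datum `d'` is the base change of the datum `d`.
-/

set_option autoImplicit false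
universe u
open CategoryTheory CategoryTheory.Limits AlgebraicGeometry

namespace K835.CurveModel

/-- Data of a (compactified, smooth) model of `X` over `S`. -/
structure Dat {X S : Scheme.{u}} (f : X ⟶ S) where
  /-- the constants -/
  T : Scheme.{u}
  /-- the compactification -/
  B : Scheme.{u}
  /-- the normalization -/
  Y : Scheme.{u}
  t : T ⟶ S
  b : B ⟶ T
  j : Y ⟶ B
  ν : Y ⟶ X
  /-- the open where `ν` is a thickening -/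
  W : X.Opens
  w : ν ≫ f = j ≫ b ≫ t

/-- `d'` is the base change of `d`. -/
structure Cart {X S X' S' : Scheme.{u}} {f : X ⟶ S} {f' : X' ⟶ S'} {q : X' ⟶ X} {g : S' ⟶ S}
    (h : IsPullback q f' f g) (d' : Dat f') (d : Dat f) where
  pT : d'.T ⟶ d.T
  pB : d'.B ⟶ d.B
  pY : d'.Y ⟶ d.Y
  hT : IsPullback pT d'.t d.t g
  hB : IsPullback pB d'.b d.b pT
  hY : IsPullback pY d'.j d.j pB
  hν : pY ≫ d.ν = d'.ν ≫ q
  hW : d'.W = q ⁻¹ᵁ d.W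

section

variable {X S X' S' : Scheme.{u}} {f : X ⟶ S} {f' : X' ⟶ S'} {q : X' ⟶ X} {g : S' ⟶ S}
    {h : IsPullback q f' f g}

/-- Base change of a datum. -/
noncomputable def Dat.bc (h : IsPullback q f' f g) (d : Dat f) : Dat f' where
  T := pullback d.t g
  B := pullback d.b (pullback.fst d.t g)
  Y := pullback d.j (pullback.fst d.b (pullback.fst d.t g))
  t := pullback.snd _ _
  b := pullback.snd _ _
  j := pullback.snd _ _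
  ν := h.lift (pullback.fst d.j (pullback.fst d.b (pullback.fst d.t g)) ≫ d.ν)
    (pullback.snd d.j (pullback.fst d.b (pullback.fst d.t g)) ≫
      pullback.snd d.b (pullback.fst d.t g) ≫ pullback.snd d.t g) (by
        rw [Category.assoc, d.w, ← Category.assoc, pullback.condition, Category.assoc,
          pullback.condition_assoc, pullback.condition, Category.assoc, Category.assoc])
  W := q ⁻¹ᵁ d.W
  w := h.lift_snd _ _ _

/-- The base change is a base change. -/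
noncomputable def Dat.bcCart (h : IsPullback q f' f g) (d : Dat f) : Cart h (d.bc h) d where
  pT := pullback.fst _ _
  pB := pullback.fst _ _
  pY := pullback.fst _ _
  hT := IsPullback.of_hasPullback _ _
  hB := IsPullback.of_hasPullback _ _
  hY := IsPullback.of_hasPullback _ _
  hν := (h.lift_fst _ _ _).symm
  hW := rfl

variable {d' : Dat f'} {d : Dat f}

theorem Cart.hYT (c : Cart h d' d) : IsPullback c.pY (d'.j ≫ d'.b) (d.j ≫ d.b) c.pT :=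
  c.hY.paste_vert c.hB

theorem Cart.hYS (c : Cart h d' d) :
    IsPullback c.pY (d'.j ≫ d'.b ≫ d'.t) (d.j ≫ d.b ≫ d.t) g := by
  rw [← Category.assoc, ← Category.assoc]
  exact c.hYT.paste_vert c.hT

theorem Cart.hν' (c : Cart h d' d) : IsPullback c.pY d'.ν d.ν q := by
  refine IsPullback.of_bot (v₂₁ := f') (v₂₂ := f) (h₃₁ := g) ?_ c.hν h
  rw [d.w, d'.w]
  exact c.hYS

end

/-- Lifting a cartesian datum through an intermediate one. -/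
noncomputable def Cart.lift {X₁ X₂ X₃ S₁ S₂ S₃ : Scheme.{u}} {f₁ : X₁ ⟶ S₁} {f₂ : X₂ ⟶ S₂}
    {f₃ : X₃ ⟶ S₃} {q₁₂ : X₁ ⟶ X₂} {q₂₃ : X₂ ⟶ X₃} {q₁₃ : X₁ ⟶ X₃} {g₁₂ : S₁ ⟶ S₂}
    {g₂₃ : S₂ ⟶ S₃} {g₁₃ : S₁ ⟶ S₃} {h₁₂ : IsPullback q₁₂ f₁ f₂ g₁₂}
    {h₂₃ : IsPullback q₂₃ f₂ f₃ g₂₃} {h₁₃ : IsPullback q₁₃ f₁ f₃ g₁₃} (hq : q₁₂ ≫ q₂₃ = q₁₃)
    (hg : g₁₂ ≫ g₂₃ = g₁₃) {d₁ : Dat f₁} {d₂ : Dat f₂} {d₃ : Dat f₃} (c₁₃ : Cart h₁₃ d₁ d₃)
    (c₂₃ : Cart h₂₃ d₂ d₃) : Cart h₁₂ d₁ d₂ := by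
  have e1 : c₁₃.pT ≫ d₃.t = (d₁.t ≫ g₁₂) ≫ g₂₃ := by rw [Category.assoc, hg, c₁₃.hT.w]
  have hT : IsPullback (c₂₃.hT.lift c₁₃.pT (d₁.t ≫ g₁₂) e1) d₁.t d₂.t g₁₂ := by
    refine IsPullback.of_right (h₁₂ := c₂₃.pT) (h₂₂ := g₂₃) (v₁₃ := d₃.t) ?_
      (c₂₃.hT.lift_snd _ _ _) c₂₃.hT
    rw [c₂₃.hT.lift_fst, hg]
    exact c₁₃.hT
  have e2 : c₁₃.pB ≫ d₃.b = (d₁.b ≫ c₂₃.hT.lift c₁₃.pT (d₁.t ≫ g₁₂) e1) ≫ c₂₃.pT := by
    rw [Category.assoc, c₂₃.hT.lift_fst, c₁₃.hB.w]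
  have hB : IsPullback (c₂₃.hB.lift c₁₃.pB _ e2) d₁.b d₂.b
      (c₂₃.hT.lift c₁₃.pT (d₁.t ≫ g₁₂) e1) := by
    refine IsPullback.of_right (h₁₂ := c₂₃.pB) (h₂₂ := c₂₃.pT) (v₁₃ := d₃.b) ?_
      (c₂₃.hB.lift_snd _ _ _) c₂₃.hB
    rw [c₂₃.hB.lift_fst, c₂₃.hT.lift_fst]
    exact c₁₃.hB
  have e3 : c₁₃.pY ≫ d₃.j = (d₁.j ≫ c₂₃.hB.lift c₁₃.pB _ e2) ≫ c₂₃.pB := by
    rw [Category.assoc, c₂₃.hB.lift_fst, c₁₃.hY.w]
  have hY : IsPullback (c₂₃.hY.lift c₁₃.pY _ e3) d₁.j d₂.j (c₂₃.hB.lift c₁₃.pB _ e2) := by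
    refine IsPullback.of_right (h₁₂ := c₂₃.pY) (h₂₂ := c₂₃.pB) (v₁₃ := d₃.j) ?_
      (c₂₃.hY.lift_snd _ _ _) c₂₃.hY
    rw [c₂₃.hY.lift_fst, c₂₃.hB.lift_fst]
    exact c₁₃.hY
  refine ⟨_, _, _, hT, hB, hY, ?_, ?_⟩
  · apply h₂₃.hom_ext
    · rw [Category.assoc, ← c₂₃.hν, ← Category.assoc, c₂₃.hY.lift_fst, c₁₃.hν, Category.assoc, hq]
    · have e4 := (hY.paste_vert (hB.paste_vert hT)).w
      simp only [Category.assoc] at e4
      rw [Category.assoc, Category.assoc, d₂.w, h₁₂.w, ← Category.assoc d₁.ν, d₁.w, e4]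
      simp only [Category.assoc]
  · rw [c₁₃.hW, c₂₃.hW, ← hq]
    rfl

end K835.CurveModel
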