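import Groth.Agent.FlatMor.K835.Prop
import Groth.Agent.Ega4fib.H146.DenseLocusSch
import Groth.Agent.Ega4fib.H149.FibreTopLoc

/-!
# Density in the fibres

Invariance under base change and constructibility of the set of points whose fibre meets a given
open in a dense subset.
-/

set_option autoImplicit false
universe u
open CategoryTheory CategoryTheory.Limits AlgebraicGeometry Topology

namespace K835.CurveModel

theorem dense_fiber_iff {X S : Scheme.{u}} (f : X ⟶ S) (W : Set X) (s : S) :
    Dense (f.fiberι s ⁻¹' W) ↔ f ⁻¹' {s} ⊆ closure (W ∩ f ⁻¹' {s}) := by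
  have h1 : closure (f.fiberι s ⁻¹' W) = f.fiberι s ⁻¹' closure (W ∩ f ⁻¹' {s}) := by
    rw [(f.fiberι s).isEmbedding.closure_eq_preimage_closure_image, Set.image_preimage_eq_inter_range,
      f.range_fiberι s]
  rw [dense_iff_closure_eq, h1, Set.eq_univ_iff_forall]
  constructor
  · rintro h x hx
    have hx' : x ∈ Set.range (f.fiberι s) := by rw [f.range_fiberι s]; exact hx
    obtain ⟨y, rfl⟩ := hx'
    exact h y
  · intro h y
    have : f.fiberι s y ∈ Set.range (f.fiberι s) := ⟨y, rfl⟩
    rw [f.range_fiberι s] at this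
    exact h this

theorem universallyOpen_of_isField {K L : CommRingCat.{u}} (hK : IsField K) (φ : K ⟶ L) :
    UniversallyOpen (Spec.map φ) := by
  let _ := hK.toField
  exact Groth.Agent.Fdesc.BaseField.universallyOpen_of_field (K := K) (Spec.map φ)

theorem dense_fiber_baseChange {X Y X' Y' : Scheme.{u}} {f : X ⟶ Y} {f' : X' ⟶ Y'} {g' : X' ⟶ X}
    {g : Y' ⟶ Y} (h : IsPullback g' f' f g) (W : Set X) (y : Y') :
    Dense (f'.fiberι y ⁻¹' (g' ⁻¹' W)) ↔ Dense (f.fiberι (g y) ⁻¹' W) := by
  have H := isPullback_fiberToSpecResidueField_of_isPullback h y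
  have h2 : UniversallyOpen (Spec.map (g.residueFieldMap y)) :=
    universallyOpen_of_isField (Field.toIsField (Y.residueField (g y))) _
  have h3 : Surjective (Spec.map (g.residueFieldMap y)) := by
    have : Subsingleton (Spec (Y.residueField (g y))) :=
      inferInstanceAs (Subsingleton (PrimeSpectrum (Y.residueField (g y))))
    have : Nonempty (Spec (Y'.residueField y)) :=
      inferInstanceAs (Nonempty (PrimeSpectrum (Y'.residueField y)))
    exact ⟨fun x => ⟨Classical.arbitrary _, Subsingleton.elim _ _⟩⟩
  obtain ⟨m, hm, hH⟩ : ∃ m : f'.fiber y ⟶ f.fiber (g y), m ≫ f.fiberι (g y) = f'.fiberι y ≫ g' ∧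
      IsPullback m (f'.fiberToSpecResidueField y) (f.fiberToSpecResidueField (g y))
        (Spec.map (g.residueFieldMap y)) :=
    ⟨_, pullback.lift_fst _ _ _, H⟩
  have hmo : IsOpenMap m := by
    have : UniversallyOpen m := MorphismProperty.of_isPullback hH.flip h2
    exact m.isOpenMap
  have hms : Function.Surjective m := by
    have : Surjective m := MorphismProperty.of_isPullback hH.flip h3
    exact m.surjective
  have e : (f'.fiberι y ⁻¹' (g' ⁻¹' W) : Set (f'.fiber y)) = m ⁻¹' (f.fiberι (g y) ⁻¹' W) := by
    ext x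
    simp only [Set.mem_preimage]
    rw [← Scheme.Hom.comp_apply, ← Scheme.Hom.comp_apply, hm]
  rw [e]
  constructor
  · intro hd
    have h4 := hms.denseRange.dense_image m.continuous hd
    rwa [Set.image_preimage_eq _ hms] at h4
  · intro hd
    exact hd.preimage hmo

theorem isLocallyConstructible_dense {X S : Scheme.{u}} (f : X ⟶ S)
    [LocallyOfFinitePresentation f] [QuasiCompact f] {W : Set X} (hW : IsLocallyConstructible W) :
    IsLocallyConstructible {s : S | Dense (f.fiberι s ⁻¹' W)} := by
  have h1 := Groth.Agent.Ega4fib.H146.DenseLocusSch.isLocallyConstructible_setOf_subset_closure f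
    hW (Topology.IsLocallyConstructible.univ : IsLocallyConstructible (Set.univ : Set X))
  convert h1 using 1
  ext s
  simp only [Set.mem_setOf_eq, Set.univ_inter]
  exact dense_fiber_iff f W s

end K835.CurveModel
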