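import Groth.Agent.FlatMor.K835.Perf
import Groth.Agent.PicF.K248.StalkLim
import Mathlib.AlgebraicGeometry.Artinian
import Mathlib.AlgebraicGeometry.Morphisms.QuasiFinite

/-!
# Good data near a generic point
-/

set_option autoImplicit false
universe u
open CategoryTheory CategoryTheory.Limits AlgebraicGeometry Topology

namespace K835.CurveModel

open Groth.Agent.Ega43.LimDesc (Descends)
open Groth.Agent.CalgA.LimFP
open K835.Stage K835.Ref

/-- The base change of `f` along `e` has good data. -/
def GoodBC {X S : Scheme.{u}} (f : X ⟶ S) {E : Scheme.{u}} (e : E ⟶ S) : Prop :=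
  ∃ d : Dat (pullback.snd f e), GoodP d

theorem exists_good_of_isPullback {X S X' S' : Scheme.{u}} {f : X ⟶ S} {f' : X' ⟶ S'}
    {q : X' ⟶ X} {g : S' ⟶ S} (h : IsPullback q f' f g) (H : ∃ d : Dat f, GoodP d) :
    ∃ d : Dat f', GoodP d := by
  obtain ⟨d, hd⟩ := H
  exact ⟨d.bc h, stable_good h _ _ (d.bcCart h) hd⟩

theorem exists_good_transfer {X S X' X'' S' : Scheme.{u}} {f : X ⟶ S} {f' : X' ⟶ S'}
    {f'' : X'' ⟶ S'} {q : X' ⟶ X} {q' : X'' ⟶ X} {g : S' ⟶ S} (h : IsPullback q f' f g)
    (h' : IsPullback q' f'' f g) (H : ∃ d : Dat f', GoodP d) : ∃ d : Dat f'', GoodP d := by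
  refine exists_good_of_isPullback (q := h.lift q' f'' h'.w) (g := 𝟙 S') ?_ H
  refine IsPullback.of_right (h₁₂ := q) (h₂₂ := g) (v₁₃ := f) ?_
    (by rw [h.lift_snd, Category.comp_id]) h
  rw [h.lift_fst, Category.id_comp]
  exact h'

theorem goodBC_iff {X S X' S' : Scheme.{u}} {f : X ⟶ S} {f' : X' ⟶ S'}
    {q : X' ⟶ X} {g : S' ⟶ S} (h : IsPullback q f' f g) :
    GoodBC f g ↔ ∃ d : Dat f', GoodP d :=
  ⟨exists_good_transfer (IsPullback.of_hasPullback f g) h,
    exists_good_transfer h (IsPullback.of_hasPullback f g)⟩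

theorem isPullback_comp {X S E E' : Scheme.{u}} (f : X ⟶ S) (t : E' ⟶ E) (e : E ⟶ S) :
    ∃ q, IsPullback q (pullback.snd f (t ≫ e)) (pullback.snd f e) t := by
  have hq : IsPullback (pullback.lift (pullback.fst f (t ≫ e)) (pullback.snd f (t ≫ e) ≫ t)
      (by rw [Category.assoc]; exact pullback.condition)) (pullback.snd f (t ≫ e))
      (pullback.snd f e) t := by
    refine IsPullback.of_right (h₁₂ := pullback.fst f e) (h₂₂ := e) (v₁₃ := f) ?_
      (pullback.lift_snd _ _ _) (IsPullback.of_hasPullback f e)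
    rw [pullback.lift_fst]
    exact IsPullback.of_hasPullback f (t ≫ e)
  exact ⟨_, hq⟩

theorem goodBC_comp {X S E E' : Scheme.{u}} (f : X ⟶ S) (t : E' ⟶ E) (e : E ⟶ S)
    (h : GoodBC f e) : GoodBC f (t ≫ e) := by
  obtain ⟨q, hq⟩ := isPullback_comp f t e
  exact exists_good_of_isPullback hq h

theorem good_goodBC {X S : Scheme.{u}} (f : X ⟶ S) (hf : fpm f) :
    Good S (fun e => GoodBC f e) where
  comp k e h := goodBC_comp f k e h
  stage D c hc _ _ _ i₀ e₀ h := by
    obtain ⟨q, hq⟩ := isPullback_comp f (c.π.app i₀) e₀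
    obtain ⟨d, hd⟩ := h
    have hf₀ : fpm (pullback.snd f e₀) := fpm_of_isPullback (IsPullback.of_hasPullback f e₀) hf
    obtain ⟨i, φ, d₁, hd₁⟩ := exists_good_stage hc hf₀ hq d hd
    exact ⟨i, φ, (goodBC_iff ((IsPullback.of_hasPullback (pullback.snd f e₀)
      (D.map φ)).paste_horiz (IsPullback.of_hasPullback f e₀))).2 ⟨d₁, hd₁⟩⟩

theorem universallyInjective_of_comp {X Y Z : Scheme.{u}} (f : X ⟶ Y) (g : Y ⟶ Z)
    [Surjective f] [h : UniversallyInjective (f ≫ g)] : UniversallyInjective g := by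
  rw [UniversallyInjective.iff_diagonal] at h ⊢
  obtain ⟨m, hm1, hm2, hm⟩ : ∃ m : pullback (f ≫ g) (f ≫ g) ⟶ pullback g g,
      m ≫ pullback.fst g g = pullback.fst (f ≫ g) (f ≫ g) ≫ f ∧
      m ≫ pullback.snd g g = pullback.snd (f ≫ g) (f ≫ g) ≫ f ∧ Surjective m :=
    ⟨_, pullback.lift_fst _ _ _, pullback.lift_snd _ _ _,
      MorphismProperty.pullbackMap (P := @Surjective) inferInstance inferInstance rfl rfl⟩
  have e : pullback.diagonal (f ≫ g) ≫ m = f ≫ pullback.diagonal g := by
    apply pullback.hom_ext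
    · rw [Category.assoc, hm1, Category.assoc, pullback.diagonal_fst, Category.comp_id,
        pullback.diagonal_fst_assoc]
    · rw [Category.assoc, hm2, Category.assoc, pullback.diagonal_snd, Category.comp_id,
        pullback.diagonal_snd_assoc]
  have h1 : Surjective (f ≫ pullback.diagonal g) := by
    rw [← e]
    infer_instance
  exact Surjective.of_comp f _

theorem uh_of_isPurelyInseparable (F E : Type u) [Field F] [Field E] [Algebra F E]
    [IsPurelyInseparable F E] :
    IsIntegralHom (Spec.map (CommRingCat.ofHom (algebraMap F E))) ∧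
      UniversallyInjective (Spec.map (CommRingCat.ofHom (algebraMap F E))) ∧
      Surjective (Spec.map (CommRingCat.ofHom (algebraMap F E))) := by
  refine ⟨?_, ?_, ?_⟩
  · rw [IsIntegralHom.SpecMap_iff]
    exact algebraMap_isIntegral_iff.mpr inferInstance
  · refine ((tfae_universallyInjective (Spec.map (CommRingCat.ofHom (algebraMap F E)))).out 0 1).mpr ?_
    intro K _ a b hab
    obtain ⟨φ, rfl⟩ := Spec.map_surjective a
    obtain ⟨ψ, rfl⟩ := Spec.map_surjective b
    congr 1
    ext1
    refine IsPurelyInseparable.injective_comp_algebraMap F E K ?_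
    simp only [← Spec.map_comp] at hab
    have := Spec.map_injective hab
    exact congrArg CommRingCat.Hom.hom this
  · constructor
    intro y
    have : Nonempty (PrimeSpectrum E) := inferInstance
    obtain ⟨x⟩ := this
    exact ⟨x, Subsingleton.elim (α := PrimeSpectrum F) _ _⟩


/-- From a purely inseparable extension to a finite one. -/
theorem exists_finite_of_field (k P : Type u) [Field k] [Field P] [Algebra k P]
    [IsPurelyInseparable k P] {Y : Scheme.{u}} {𝓡 : ∀ {E : Scheme.{u}}, (E ⟶ Y) → Prop}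
    (h𝓡 : Good Y 𝓡) (e : Spec (CommRingCat.of k) ⟶ Y)
    (h : 𝓡 (Spec.map (CommRingCat.ofHom (algebraMap k P)) ≫ e)) :
    ∃ (V : Scheme.{u}) (v : V ⟶ Spec (CommRingCat.of k)), IsFinite v ∧ Surjective v ∧
      UniversallyInjective v ∧ LocallyOfFinitePresentation v ∧ 𝓡 (v ≫ e) := by
  obtain ⟨h1, h2, h3⟩ := uh_of_isPurelyInseparable k P
  obtain ⟨I, _, _, D, c, hc, t, iso, hcl, ht, hct, hD⟩ :=
    integral_limit (Spec.map (CommRingCat.ofHom (algebraMap k P)))
  have g1 : ∀ i, IsFinite (t i) := fun i => (hD i).1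
  have g2 : ∀ i, CompactSpace (D.obj i) := fun i =>
    QuasiCompact.compactSpace_of_compactSpace (t i)
  have g3 : ∀ i, QuasiSeparatedSpace (D.obj i) := fun i =>
    quasiSeparatedSpace_of_quasiSeparated (t i)
  obtain ⟨i₀⟩ := IsCofiltered.nonempty (C := I)
  obtain ⟨i, φ, hi⟩ := h𝓡.stage D c hc i₀ (t i₀ ≫ e) (by
      rw [← Category.assoc, hct, Category.assoc]
      exact h𝓡.comp _ _ h)
  rw [← Category.assoc, ht] at hi
  -- the point
  have hdisc : DiscreteTopology (D.obj i) := by
    have h1 : IsLocallyArtinian (Spec (CommRingCat.of k)) :=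
      Scheme.isLocallyArtinianScheme_Spec.mpr inferInstance
    have h2 : IsLocallyArtinian (D.obj i) := IsLocallyArtinian.of_locallyQuasiFinite (f := t i)
    infer_instance
  obtain ⟨z, hz⟩ : ∃ z : Spec (CommRingCat.of P) ⟶ D.obj i,
      z ≫ t i = Spec.map (CommRingCat.ofHom (algebraMap k P)) :=
    ⟨iso.inv ≫ c.π.app i, by rw [Category.assoc, hct, Iso.inv_hom_id_assoc]⟩
  obtain ⟨x, hx⟩ : ∃ x : D.obj i, x = z (IsLocalRing.closedPoint P) := ⟨_, rfl⟩
  have hcl' : IsClosedImmersion ((D.obj i).fromSpecResidueField x) := by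
    refine IsClosedImmersion.of_isPreimmersion _ ?_
    rw [Scheme.range_fromSpecResidueField]
    exact isClosed_discrete _
  obtain ⟨w, hw⟩ : ∃ w : Spec (CommRingCat.of P) ⟶ Spec ((D.obj i).residueField x),
      w ≫ (D.obj i).fromSpecResidueField x = z := by
    subst hx
    exact ⟨_, Scheme.descResidueField_stalkClosedPointTo_fromSpecResidueField P (D.obj i) z⟩
  have hws : Surjective w := by
    have : Subsingleton (Spec ((D.obj i).residueField x)) :=
      inferInstanceAs (Subsingleton (PrimeSpectrum ((D.obj i).residueField x)))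
    exact ⟨fun y => ⟨IsLocalRing.closedPoint P, Subsingleton.elim _ _⟩⟩
  refine ⟨_, (D.obj i).fromSpecResidueField x ≫ t i, inferInstance, ?_, ?_, ?_, ?_⟩
  · have : Nonempty (Spec ((D.obj i).residueField x)) :=
      inferInstanceAs (Nonempty (PrimeSpectrum ((D.obj i).residueField x)))
    exact Groth.Agent.Fdesc.BaseField.surjective_of_field _
  · have : UniversallyInjective (w ≫ (D.obj i).fromSpecResidueField x ≫ t i) := by
      rw [← Category.assoc, hw, hz]
      exact h2
    exact universallyInjective_of_comp w _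
  · infer_instance
  · rw [Category.assoc]
    exact h𝓡.comp _ _ hi

theorem isField_stalk_of_max {T : Scheme.{u}} [IsReduced T] (η : T) (hη : ∀ t : T, t ⤳ η → t = η) :
    IsField (T.presheaf.stalk η) := by
  have hu : ∀ p : PrimeSpectrum (T.presheaf.stalk η), p = IsLocalRing.closedPoint _ := by
    intro p
    have h1 : (T.fromSpecStalk η) p ∈ Set.range (T.fromSpecStalk η) := ⟨p, rfl⟩
    rw [Scheme.range_fromSpecStalk] at h1
    have h2 := hη _ h1
    apply (T.fromSpecStalk η).isEmbedding.injective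
    rw [h2, Scheme.fromSpecStalk_closedPoint]
  have h3 : IsLocalRing.maximalIdeal (T.presheaf.stalk η) = ⊥ := by
    rw [eq_bot_iff]
    intro a ha
    have h4 : a ∈ nilradical (T.presheaf.stalk η) := by
      rw [nilradical_eq_sInf, Submodule.mem_sInf]
      intro p hp
      have := hu ⟨p, hp⟩
      have h5 : p = IsLocalRing.maximalIdeal (T.presheaf.stalk η) :=
        congrArg PrimeSpectrum.asIdeal this
      rw [h5]; exact ha
    rw [nilradical_eq_zero] at h4
    exact h4
  exact (IsLocalRing.isField_iff_maximalIdeal_eq).2 h3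

theorem eq_of_specializes_of_mem {X : Scheme.{u}} {x : X}
    (hx : closure ({x} : Set X) ∈ irreducibleComponents X) (t : X) (h : t ⤳ x) : t = x := by
  have h1 : closure ({x} : Set X) ⊆ closure {t} :=
    closure_minimal (Set.singleton_subset_iff.mpr (specializes_iff_mem_closure.mp h)) isClosed_closure
  have h2 : closure ({t} : Set X) ⊆ closure {x} := hx.2 isIrreducible_singleton.closure h1
  exact (h.antisymm (specializes_iff_mem_closure.mpr (h2 (subset_closure rfl)))).eq

/-- Finite surjective universally injective morphisms. -/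
abbrev Fsu : MorphismProperty Scheme.{u} := @IsFinite ⊓ (@Surjective ⊓ @UniversallyInjective)

/-- Surjective universally injective morphisms. -/
abbrev Su : MorphismProperty Scheme.{u} := @Surjective ⊓ @UniversallyInjective

theorem stable_Su : MorphismProperty.IsStableUnderBaseChange Su.{u} :=
  MorphismProperty.IsStableUnderBaseChange.inf (P := @Surjective) (Q := @UniversallyInjective)

theorem descends_Su : Descends Su.{u} :=
  descends_inf (P := @Surjective) (Q := @UniversallyInjective)
    Groth.Agent.Ega43.LimSurj.descends_surjective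
    Groth.Agent.Ega43.LimUnivInj.descends_universallyInjective

theorem stable_Fsu : MorphismProperty.IsStableUnderBaseChange Fsu.{u} := by
  have := stable_Su.{u}
  exact MorphismProperty.IsStableUnderBaseChange.inf (P := @IsFinite) (Q := Su)

theorem descends_Fsu : Descends Fsu.{u} :=
  have := stable_Su.{u}
  descends_inf (P := @IsFinite) (Q := Su) Groth.Agent.Ega43.LimCompare.descends_isFinite
    descends_Su

theorem exists_restrict {Z S : Scheme.{u}} (r : Z ⟶ S) [IsClosedImmersion r] [hr2 : Surjective r]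
    (U : S.Opens) (V : Z.Opens) (hU : r ⁻¹ᵁ U = V) :
    ∃ m : (V : Scheme.{u}) ⟶ (U : Scheme.{u}), m ≫ U.ι = V.ι ≫ r ∧ IsFinite m ∧ Surjective m ∧
      UniversallyInjective m := by
  subst hU
  exact ⟨r ∣_ U, morphismRestrict_ι _ _, inferInstance,
    MorphismProperty.of_isPullback (isPullback_morphismRestrict r U).flip hr2, inferInstance⟩

/-- Good data after a finite purely inseparable base change near a generic point. -/
theorem exists_goodBC {X S : Scheme.{u}} (f : X ⟶ S) [IsSeparated f]
    [LocallyOfFinitePresentation f] [QuasiCompact f] (η : S)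
    (hη : closure {η} ∈ irreducibleComponents S) (hdim : topologicalKrullDim (f.fiber η) ≤ 1) :
    ∃ (U : S.Opens) (V : Scheme.{u}) (g : V ⟶ U), η ∈ U ∧ IsFinite g ∧ Surjective g ∧
      UniversallyInjective g ∧ GoodBC f (g ≫ U.ι) := by
  have hr1 : IsClosedImmersion S.nilradical.subschemeι := inferInstance
  have hr2 : Surjective S.nilradical.subschemeι := surjective_nilradical S
  have hZ : IsReduced S.nilradical.subscheme := isReduced_nilradical S
  generalize S.nilradical.subschemeι = r at hr1 hr2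
  generalize S.nilradical.subscheme = Z at r hr1 hr2 hZ
  obtain ⟨z, rfl⟩ := hr2.surj η
  have hmax : ∀ t : Z, t ⤳ z → t = z := fun t ht =>
    r.isClosedEmbedding.injective (eq_of_specializes_of_mem hη _ (ht.map r.continuous))
  have hK := isField_stalk_of_max z hmax
  let _ : Field (Z.presheaf.stalk z) := hK.toField
  let P := perfectClosure (Z.presheaf.stalk z) (AlgebraicClosure (Z.presheaf.stalk z))
  have hf : fpm f := (fpm_iff f).2 ⟨inferInstance, inferInstance, inferInstance⟩
  obtain ⟨e, he⟩ : ∃ e : Spec (CommRingCat.of (Z.presheaf.stalk z)) ⟶ S,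
      e = Z.fromSpecStalk z ≫ r := ⟨_, rfl⟩
  have hP : GoodBC f (Spec.map (CommRingCat.ofHom (algebraMap (Z.presheaf.stalk z) P)) ≫ e) := by
    have hpb := IsPullback.of_hasPullback f
      (Spec.map (CommRingCat.ofHom (algebraMap (Z.presheaf.stalk z) P)) ≫ e)
    refine exists_good_of_perfectField P _ ?_
    rw [Groth.Agent.Flat2G.ProperDim.topologicalKrullDim_field_point f (Field.toIsField P) _ _ _
      hpb (IsLocalRing.closedPoint P)]
    have h1 : Spec.map (CommRingCat.ofHom (algebraMap (Z.presheaf.stalk z) P))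
        (IsLocalRing.closedPoint P) = IsLocalRing.closedPoint (Z.presheaf.stalk z) :=
      Subsingleton.elim (α := PrimeSpectrum (Z.presheaf.stalk z)) _ _
    have h2 : (Spec.map (CommRingCat.ofHom (algebraMap (Z.presheaf.stalk z) P)) ≫ e)
        (IsLocalRing.closedPoint P) = r z := by
      rw [Scheme.Hom.comp_apply, h1, he, Scheme.Hom.comp_apply, Scheme.fromSpecStalk_closedPoint]
    rw [h2]
    exact hdim
  obtain ⟨V₀, v, hv1, hv2, hv3, hv4, hv5⟩ : ∃ (V : Scheme.{u})
      (v : V ⟶ (K248.StalkLim.cone Z z).pt), IsFinite v ∧ Surjective v ∧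
      UniversallyInjective v ∧ LocallyOfFinitePresentation v ∧
      GoodBC f (v ≫ Z.fromSpecStalk z ≫ r) := by
    rw [he] at hP
    exact exists_finite_of_field (Z.presheaf.stalk z) P (good_goodBC f hf) _ hP
  have hst := stable_Fsu.{u}
  obtain ⟨i₀⟩ : Nonempty (K248.StalkLim.Nhd Z z) := inferInstance
  obtain ⟨i, φ, M, hM, hgood⟩ := exists_model (good_goodBC f hf) (K248.StalkLim.isLimit Z z)
    (P := Fsu) descends_Fsu i₀ (Scheme.Opens.ι i₀.1 ≫ r) v ⟨hv1, hv2, hv3⟩ (by
      have : (K248.StalkLim.cone Z z).π.app i₀ ≫ Scheme.Opens.ι i₀.1 ≫ r =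
          Z.fromSpecStalk z ≫ r := by
        rw [← Category.assoc]
        congr 1
        exact K248.StalkLim.leg_ι Z z i₀
      rw [this]
      exact hv5)
  obtain ⟨U, hU⟩ := exists_open_preimage r i.1
  have hz : r z ∈ U := by
    have h1 : z ∈ i.1 := i.2.2
    rw [← hU] at h1
    exact h1
  obtain ⟨hM1, hM2, hM3⟩ := hM
  obtain ⟨m, hm, hm1, hm2, hm3⟩ : ∃ m : ((K248.StalkLim.D Z z).obj i) ⟶ (U : Scheme.{u}),
      m ≫ U.ι = Scheme.Opens.ι i.1 ≫ r ∧ IsFinite m ∧ Surjective m ∧ UniversallyInjective m :=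
    exists_restrict r U i.1 hU
  have e1 : (M.f ≫ m) ≫ U.ι = M.f ≫ (K248.StalkLim.D Z z).map φ ≫ Scheme.Opens.ι i₀.1 ≫ r := by
    rw [Category.assoc, hm]
    congr 1
    rw [← Category.assoc]
    congr 1
    exact (Scheme.homOfLE_ι (U := i.1) (V := i₀.1) _ φ.le).symm
  refine ⟨U, M.A, M.f ≫ m, hz, inferInstance, inferInstance,
    MorphismProperty.comp_mem @UniversallyInjective _ _ hM3 hm3, ?_⟩
  rw [e1]
  exact hgood

end K835.CurveModel
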