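import Groth.Agent.FlatMor.K835.Sels

/-!
# Good data descend to a stage of a cofiltered limit
-/

set_option autoImplicit false
universe u
open CategoryTheory CategoryTheory.Limits AlgebraicGeometry Topology

namespace K835.CurveModel

open Groth.Agent.Ega43.LimDesc (Descends)
open Groth.Agent.CalgA.LimFP
open K835.Stage K835.Ref

/-- Thickenings. -/
abbrev Nil : MorphismProperty Scheme.{u} := @IsClosedImmersion ⊓ @Surjective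

/-- Good data. -/
def GoodP {X S : Scheme.{u}} {f : X ⟶ S} (d : Dat f) : Prop :=
  (FP d ∧ ∀ s, fibW.Pt d s) ∧ (FP d ∧ ∀ s, fibT.Pt d s) ∧ IsFinite d.t ∧ Etale d.t ∧
    Smooth d.b ∧ IsProper d.b ∧ IsOpenImmersion d.j ∧ Surjective (d.j ≫ d.b) ∧ IsFinite d.ν ∧
    Surjective d.ν ∧ Nil (d.ν ∣_ d.W)

theorem stable_good_desc_good : Stable.{u} (fun d => GoodP d) ∧ Desc.{u} (fun d => GoodP d) := by
  have a1 := fibW.{u}.stable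
  have a2 := fibT.{u}.stable
  have a3 := selT.{u}.stable @IsFinite
  have a4 := selT.{u}.stable @Etale
  have a5 := selB.{u}.stable @Smooth
  have a6 := selB.{u}.stable @IsProper
  have a7 := selJ.{u}.stable @IsOpenImmersion
  have a8 := selY.{u}.stable @Surjective
  have a9 := selN.{u}.stable @IsFinite
  have a10 := selN.{u}.stable @Surjective
  have hN : MorphismProperty.IsStableUnderBaseChange Nil.{u} :=
    MorphismProperty.IsStableUnderBaseChange.inf (P := @IsClosedImmersion) (Q := @Surjective)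
  have a11 := selW.{u}.stable Nil
  have s10 := a10.and a11
  have s9 := a9.and s10
  have s8 := a8.and s9
  have s7 := a7.and s8
  have s6 := a6.and s7
  have s5 := a5.and s6
  have s4 := a4.and s5
  have s3 := a3.and s4
  have s2 := a2.and s3
  have s1 := a1.and s2
  have b1 := fibW.{u}.desc
  have b2 := fibT.{u}.desc
  have b3 := selT.{u}.desc Groth.Agent.Ega43.LimCompare.descends_isFinite
  have b4 := selT.{u}.desc descends_etale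
  have b5 := selB.{u}.desc descends_smooth
  have b6 := selB.{u}.desc descends_isProper
  have b7 := selJ.{u}.desc descends_isOpenImmersion
  have b8 := selY.{u}.desc Groth.Agent.Ega43.LimSurj.descends_surjective
  have b9 := selN.{u}.desc Groth.Agent.Ega43.LimCompare.descends_isFinite
  have b10 := selN.{u}.desc Groth.Agent.Ega43.LimSurj.descends_surjective
  have b11 := selW.{u}.desc (P := Nil) descends_nil
  have d10 := b10.and b11 a10 a11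
  have d9 := b9.and d10 a9 s10
  have d8 := b8.and d9 a8 s9
  have d7 := b7.and d8 a7 s8
  have d6 := b6.and d7 a6 s7
  have d5 := b5.and d6 a5 s6
  have d4 := b4.and d5 a4 s5
  have d3 := b3.and d4 a3 s4
  have d2 := b2.and d3 a2 s3
  exact ⟨s1, b1.and d2 a1 s2⟩

theorem stable_good : Stable.{u} (fun d => GoodP d) := stable_good_desc_good.1

theorem desc_good : Desc.{u} (fun d => GoodP d) := stable_good_desc_good.2

theorem fpm_of_comp {X Y Z : Scheme.{u}} {f : X ⟶ Y} {g : Y ⟶ Z} (hf : fpm (f ≫ g))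
    (hg : fpm g) : fpm f := by
  obtain ⟨h1, h2, h3⟩ := (fpm_iff _).1 hf
  obtain ⟨h4, h5, h6⟩ := (fpm_iff g).1 hg
  exact (fpm_iff _).2 ⟨Groth.Agent.Ega43.LimDesc.locallyOfFinitePresentation_of_comp f g,
    .of_comp f g, .of_comp f g⟩

section

variable {I : Type u} [SmallCategory I] [IsCofiltered I] {D : I ⥤ Scheme.{u}} {c : Cone D}
  (hc : IsLimit c) [hDa : ∀ (i j : I) (f : i ⟶ j), IsAffineHom (D.map f)]
  [∀ i, CompactSpace (D.obj i)] [∀ i, QuasiSeparatedSpace (D.obj i)]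

omit [IsCofiltered I] hDa [∀ i, CompactSpace (D.obj i)] [∀ i, QuasiSeparatedSpace (D.obj i)] in
theorem mdl_fpm {A' : Scheme.{u}} {f' : A' ⟶ c.pt} {i : I} (M : Mdl f' i) : fpm M.f :=
  (fpm_iff _).2 ⟨M.lfp, M.qc, M.qs⟩

omit [IsCofiltered I] hDa [∀ i, CompactSpace (D.obj i)] [∀ i, QuasiSeparatedSpace (D.obj i)] in
theorem upTo_bc {A' : Scheme.{u}} {f' : A' ⟶ c.pt} {i i₀ : I} {φ : i ⟶ i₀} (M : Mdl f' i)
    {X₀ : Scheme.{u}} {f₀ : X₀ ⟶ D.obj i₀} (h : ∃ q, IsPullback q M.f f₀ (D.map φ)) {j : I}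
    (a : j ⟶ i) : ∃ q, IsPullback q (M.bc a).f f₀ (D.map (a ≫ φ)) := by
  obtain ⟨q, hq⟩ := h
  refine ⟨pullback.fst M.f (D.map a) ≫ q, ?_⟩
  rw [D.map_comp]
  exact (IsPullback.of_hasPullback M.f (D.map a)).paste_horiz hq

include hc hDa in
theorem exists_dat {i₀ : I} {X₀ X : Scheme.{u}} {f₀ : X₀ ⟶ D.obj i₀} (hf₀ : fpm f₀)
    {q : X ⟶ X₀} {f : X ⟶ c.pt} (h : IsPullback q f f₀ (c.π.app i₀)) (d : Dat f) (hd : FP d) :
    ∃ (i : I) (φ : i ⟶ i₀) (X₁ : Scheme.{u}) (f₁ : X₁ ⟶ D.obj i) (q₁ : X₁ ⟶ X₀)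
      (_ : IsPullback q₁ f₁ f₀ (D.map φ)) (d₁ : Dat f₁) (q' : X ⟶ X₁)
      (h' : IsPullback q' f f₁ (c.π.app i)), FP d₁ ∧ Nonempty (Cart h' d d₁) := by
  obtain ⟨hf1, hf2, hf3⟩ := (fpm_iff _).1 hf₀
  obtain ⟨ht1, ht2, ht3⟩ := (fpm_iff _).1 hd.ht
  obtain ⟨hb1, hb2, hb3⟩ := (fpm_iff _).1 hd.hb
  obtain ⟨hj1, hj2, hj3⟩ := (fpm_iff _).1 hd.hj
  obtain ⟨hW1, hW2, hW3⟩ := (fpm_iff _).1 hd.hW
  -- the models of the objects
  obtain ⟨i₁, φ₁, MX₁, hX₁, MT₁, MB₁, MY₁, -⟩ : ∃ (i : I) (φ : i ⟶ i₀) (MX : Mdl f i)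
      (_ : ∃ q, IsPullback q MX.f f₀ (D.map φ)) (_ : Mdl d.t i) (_ : Mdl (d.b ≫ d.t) i)
      (_ : Mdl (d.j ≫ d.b ≫ d.t) i), True := by
    obtain ⟨i₁, φ₁, ⟨MT⟩⟩ := exists_model_over hc d.t i₀
    obtain ⟨i₂, φ₂, ⟨MB⟩⟩ := exists_model_over hc (d.b ≫ d.t) i₁
    obtain ⟨i₃, φ₃, ⟨MY⟩⟩ := exists_model_over hc (d.j ≫ d.b ≫ d.t) i₂
    refine ⟨i₃, (φ₃ ≫ φ₂ ≫ φ₁) ≫ 𝟙 i₀,
      (⟨X₀, f₀, q, h, inferInstance, inferInstance, inferInstance⟩ : Mdl f i₀).bc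
        (φ₃ ≫ φ₂ ≫ φ₁), upTo_bc _ ⟨𝟙 _, ?_⟩ _, MT.bc (φ₃ ≫ φ₂), MB.bc φ₃, MY, trivial⟩
    rw [D.map_id]
    exact IsPullback.of_horiz_isIso ⟨by simp⟩
  -- the morphisms
  obtain ⟨i₂, φ₂, MX₂, hX₂, MT₂, MB₂, MY₂, wb₂, wj₂, wν₂, -⟩ : ∃ (i : I) (φ : i ⟶ i₀)
      (MX : Mdl f i) (_ : ∃ q, IsPullback q MX.f f₀ (D.map φ)) (MT : Mdl d.t i)
      (MB : Mdl (d.b ≫ d.t) i) (MY : Mdl (d.j ≫ d.b ≫ d.t) i) (_ : Mdl.Hom d.b MB MT)
      (_ : Mdl.Hom d.j MY MB) (_ : Mdl.Hom d.ν MY MX), True := by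
    obtain ⟨i₂, a₂, ⟨wb⟩⟩ := MB₁.exists_hom hc MT₁ d.b rfl
    obtain ⟨i₃, a₃, ⟨wj⟩⟩ := (MY₁.bc a₂).exists_hom hc (MB₁.bc a₂) d.j rfl
    obtain ⟨i₄, a₄, ⟨wν⟩⟩ := ((MY₁.bc a₂).bc a₃).exists_hom hc ((MX₁.bc a₂).bc a₃) d.ν d.w
    exact ⟨i₄, _, _, upTo_bc _ (upTo_bc _ (upTo_bc _ hX₁ a₂) a₃) a₄, _, _, _, (wb.bc a₃).bc a₄,
      wj.bc a₄, wν, trivial⟩
  -- the open
  obtain ⟨i₃, φ₃, MX, hX, MT, MB, MY, wb, wj, wν, MW, wW, hwW⟩ : ∃ (i : I) (φ : i ⟶ i₀)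
      (MX : Mdl f i) (_ : ∃ q, IsPullback q MX.f f₀ (D.map φ)) (MT : Mdl d.t i)
      (MB : Mdl (d.b ≫ d.t) i) (MY : Mdl (d.j ≫ d.b ≫ d.t) i) (_ : Mdl.Hom d.b MB MT)
      (_ : Mdl.Hom d.j MY MB) (_ : Mdl.Hom d.ν MY MX) (MW : Mdl (d.W.ι ≫ f) i)
      (wW : Mdl.Hom d.W.ι MW MX), IsOpenImmersion wW.φ := by
    have hcc : CompactSpace c.pt := Scheme.compactSpace_of_isLimit D c hc
    have hfq : QuasiCompact f := MorphismProperty.of_isPullback h inferInstance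
    have hWc : CompactSpace (d.W : Scheme.{u}) :=
      QuasiCompact.compactSpace_of_compactSpace (d.W.ι ≫ f)
    obtain ⟨i₃, a₃, MW, wW, hwW⟩ := MX₂.exists_open hc d.W.ι (g' := d.W.ι ≫ f) rfl
    exact ⟨i₃, _, _, upTo_bc _ hX₂ a₃, _, _, _, wb₂.bc a₃, wj₂.bc a₃, wν₂.bc a₃, MW, wW, hwW⟩
  obtain ⟨q₁, hq₁⟩ := hX
  have hwb : fpm wb.φ := fpm_of_comp (by rw [wb.w]; exact mdl_fpm MB) (mdl_fpm MT)
  have hwj : fpm wj.φ := fpm_of_comp (by rw [wj.w]; exact mdl_fpm MY) (mdl_fpm MB)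
  have hwWf : fpm wW.φ := fpm_of_comp (by rw [wW.w]; exact mdl_fpm MW) (mdl_fpm MX)
  have hWf : fpm (wW.φ.opensRange.ι) := by
    obtain ⟨h1, h2, h3⟩ := (fpm_iff _).1 hwWf
    have e : wW.φ.isoOpensRange.inv ≫ wW.φ = wW.φ.opensRange.ι := by
      simp
    rw [← e]
    exact (fpm_iff _).2 ⟨inferInstance, inferInstance, inferInstance⟩
  refine ⟨i₃, φ₃, MX.A, MX.f, q₁, hq₁, ⟨MT.A, MB.A, MY.A, MT.f, wb.φ, wj.φ, wν.φ,
    wW.φ.opensRange, by rw [wν.w, wb.w, wj.w]⟩, MX.p, MX.h, ⟨mdl_fpm MX, mdl_fpm MT, hwb, hwj, hWf⟩,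
    ⟨⟨MT.p, MB.p, MY.p, MT.h, wb.isPullback, wj.isPullback, wν.wp, ?_⟩⟩⟩
  ext x
  change x ∈ d.W ↔ MX.p x ∈ Set.range wW.φ
  constructor
  · intro hx
    refine ⟨MW.p ⟨x, hx⟩, ?_⟩
    rw [← Scheme.Hom.comp_apply, wW.wp, Scheme.Hom.comp_apply]
    rfl
  · rintro ⟨y, hy⟩
    obtain ⟨z, -, rfl⟩ := Scheme.exists_preimage_of_isPullback wW.isPullback y x hy
    exact z.2

include hc hDa in
/-- **Good data descend to a stage.** -/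
theorem exists_good_stage {i₀ : I} {X₀ X : Scheme.{u}} {f₀ : X₀ ⟶ D.obj i₀} (hf₀ : fpm f₀)
    {q : X ⟶ X₀} {f : X ⟶ c.pt} (h : IsPullback q f f₀ (c.π.app i₀)) (d : Dat f)
    (hd : GoodP d) :
    ∃ (i : I) (φ : i ⟶ i₀) (d₁ : Dat (pullback.snd f₀ (D.map φ))), GoodP d₁ := by
  obtain ⟨i₁, φ₁, X₁, f₁, q₁, h₁, d₁, q', h', hFP, ⟨cd⟩⟩ := exists_dat hc hf₀ h d hd.1.1
  obtain ⟨i₂, φ₂, H⟩ := desc_good D c hc i₁ f₁ d₁ hFP h' d cd hd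
  have h2 := IsPullback.of_hasPullback f₁ (D.map φ₂)
  have h3 := H h2 _ (d₁.bcCart h2)
  have h4 : IsPullback (pullback.fst f₁ (D.map φ₂) ≫ q₁) (pullback.snd f₁ (D.map φ₂)) f₀
      (D.map (φ₂ ≫ φ₁)) := by
    rw [D.map_comp]
    exact h2.paste_horiz h₁
  have h5 : IsPullback (h4.lift (pullback.fst f₀ (D.map (φ₂ ≫ φ₁)))
      (pullback.snd f₀ (D.map (φ₂ ≫ φ₁))) pullback.condition)
      (pullback.snd f₀ (D.map (φ₂ ≫ φ₁))) (pullback.snd f₁ (D.map φ₂)) (𝟙 _) := by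
    refine IsPullback.of_right (h₁₂ := pullback.fst f₁ (D.map φ₂) ≫ q₁) (h₂₂ := D.map (φ₂ ≫ φ₁))
      (v₁₃ := f₀) ?_ (by rw [h4.lift_snd, Category.comp_id]) h4
    rw [h4.lift_fst, Category.id_comp]
    exact IsPullback.of_hasPullback _ _
  exact ⟨i₂, φ₂ ≫ φ₁, (d₁.bc h2).bc h5, stable_good h5 _ _ ((d₁.bc h2).bcCart h5) h3⟩

end

end K835.CurveModel
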