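import Groth.Agent.FlatMor.K835.GoodStage
import Groth.Agent.Sga4h.H912.NormCover
import Groth.Agent.S0384
import Groth.Agent.S0388
import Groth.Agent.S7857
import Groth.Agent.S1628
import Groth.Agent.S1297
import Groth.Agent.S1561
import Groth.Agent.S1414
import Groth.Agent.S0658
import Groth.Agent.Ega43.GeomFibre

/-!
# Good data over a perfect field
-/

set_option autoImplicit false
universe u
open CategoryTheory CategoryTheory.Limits AlgebraicGeometry Topology

namespace K835.CurveModel

theorem isReduced_nilradical (X : Scheme.{u}) : IsReduced X.nilradical.subscheme := by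
  have : ∀ i, IsReduced (X.nilradical.subschemeCover.openCover.X i) := by
    intro U
    have h1 : _root_.IsReduced (Γ(X, U.1) ⧸ X.nilradical.ideal U) := by
      rw [← Ideal.isRadical_iff_quotient_reduced]
      exact Ideal.radical_isRadical _
    exact inferInstanceAs (IsReduced (Spec (CommRingCat.of (Γ(X, U.1) ⧸ X.nilradical.ideal U))))
  exact IsReduced.of_openCover _ X.nilradical.subschemeCover.openCover

theorem surjective_nilradical (X : Scheme.{u}) : Surjective X.nilradical.subschemeι := by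
  refine ⟨Set.range_eq_univ.mp ?_⟩
  rw [Scheme.IdealSheafData.range_subschemeι, Scheme.support_nilradical]
  rfl

/-- Opens of a closed subscheme with the same points come from the ambient scheme. -/
theorem exists_open_preimage {Z X : Scheme.{u}} (r : Z ⟶ X) [IsClosedImmersion r]
    (U : Z.Opens) : ∃ W : X.Opens, r ⁻¹ᵁ W = U := by
  have hc : IsClosed (r '' (U : Set Z)ᶜ) := r.isClosedEmbedding.isClosedMap _ U.2.isClosed_compl
  refine ⟨⟨(r '' (U : Set Z)ᶜ)ᶜ, hc.isOpen_compl⟩, ?_⟩
  ext x
  change r x ∉ r '' (U : Set Z)ᶜ ↔ x ∈ U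
  rw [r.isClosedEmbedding.injective.mem_set_image]
  simp

/-- The geometric core: a dense open `W` of `X` whose reduction is smooth. -/
theorem exists_dense_smooth (k : Type u) [Field k] [PerfectField k] {X : Scheme.{u}}
    (f : X ⟶ Spec (CommRingCat.of k)) [LocallyOfFiniteType f] :
    ∃ (V : Scheme.{u}) (W : X.Opens) (π : V ⟶ W), IsClosedImmersion π ∧ Surjective π ∧
      Smooth (π ≫ W.ι ≫ f) ∧ Dense (W : Set X) := by
  have hr1 : IsClosedImmersion X.nilradical.subschemeι := inferInstance
  have hr2 : Surjective X.nilradical.subschemeι := surjective_nilradical X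
  have hZ : IsReduced X.nilradical.subscheme := isReduced_nilradical X
  generalize X.nilradical.subschemeι = r at hr1 hr2
  generalize X.nilradical.subscheme = Z at r hr1 hr2 hZ
  let _ : Z.Over (Spec (CommRingCat.of k)) := ⟨r ≫ f⟩
  have hfp : LocallyOfFinitePresentation f := inferInstance
  have hZfp : LocallyOfFiniteType (r ≫ f) := inferInstance
  have hZfp : LocallyOfFinitePresentation (Z ↘ (Spec (CommRingCat.of k))) := by
    change LocallyOfFinitePresentation (r ≫ f)
    infer_instance
  have hZd := (Groth.Agent.S1561.result k Z).2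
  obtain ⟨W, hW⟩ := exists_open_preimage r (Z ↘ (Spec (CommRingCat.of k))).smoothLocus
  rw [← hW] at hZd
  have hsm : Smooth ((r ⁻¹ᵁ W).ι ≫ r ≫ f) := by
    rw [hW]
    change Smooth ((r ≫ f).smoothLocus.ι ≫ r ≫ f)
    have : LocallyOfFinitePresentation (r ≫ f) := hZfp
    rw [← Scheme.Hom.smoothLocus_eq_top_iff,
      ← Scheme.Hom.preimage_smoothLocus_eq (r ≫ f).smoothLocus.ι (r ≫ f)]
    exact Scheme.Opens.ι_preimage_self _
  refine ⟨(r ⁻¹ᵁ W : Z.Opens), W, r ∣_ W, inferInstance,
    MorphismProperty.of_isPullback (isPullback_morphismRestrict r W).flip hr2, ?_, ?_⟩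
  · rw [morphismRestrict_ι_assoc]
    exact hsm
  · have h4 := hr2.surj.denseRange.dense_image r.continuous hZd
    refine h4.mono ?_
    rintro _ ⟨x, hx, rfl⟩
    exact hx

theorem exists_good_of_perfectField (k : Type u) [Field k] [PerfectField k] {X : Scheme.{u}}
    (f : X ⟶ Spec (CommRingCat.of k)) [IsSeparated f] [LocallyOfFiniteType f] [QuasiCompact f]
    (hdim : topologicalKrullDim X ≤ 1) : ∃ d : Dat f, GoodP d := by
  have hfp : LocallyOfFinitePresentation f := inferInstance
  have hXN : IsLocallyNoetherian X := LocallyOfFiniteType.isLocallyNoetherian f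
  have hXc : CompactSpace X := QuasiCompact.compactSpace_of_compactSpace f
  have hXn : IsNoetherian X := {}
  obtain ⟨Xc, i, g, hi, hiq, hg, hig⟩ := Groth.Agent.S0384.result f
  have hCN : IsLocallyNoetherian Xc := LocallyOfFiniteType.isLocallyNoetherian g
  have hCc : CompactSpace Xc := QuasiCompact.compactSpace_of_compactSpace g
  have hCn : IsNoetherian Xc := {}
  obtain ⟨V, W, π, hπ1, hπ2, hsm, hWd⟩ := exists_dense_smooth k f
  have hWq : QuasiCompact W.ι := inferInstance
  have hjq : QuasiCompact (W.ι ≫ i) := inferInstance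
  obtain ⟨h, hh⟩ : ∃ h : V ⟶ Xc, h = π ≫ W.ι ≫ i := ⟨_, rfl⟩
  have e1 : h ≫ g = π ≫ W.ι ≫ f := by rw [hh, Category.assoc, Category.assoc, hig]
  have h1 : LocallyQuasiFinite h := by rw [hh]; infer_instance
  have h2 : IsSeparated h := by rw [hh]; infer_instance
  have h3 : LocallyOfFiniteType h := by rw [hh]; infer_instance
  have h4 : QuasiCompact h := by rw [hh]; infer_instance
  have h5 : Smooth (h ≫ g) := by rw [e1]; exact hsm
  have h6 : topologicalKrullDim V ≤ 1 := by
    have : IsInducing (π ≫ W.ι) := (π ≫ W.ι).isEmbedding.isInducing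
    exact this.topologicalKrullDim_le.trans hdim
  obtain ⟨n1, n2, n3, n4, n5⟩ := Groth.Agent.Sga4h.H912.NormCover.exists_normalization k g h h6
  have hw : h.toNormalization ≫ h.fromNormalization = π ≫ W.ι ≫ i := by
    rw [Scheme.Hom.toNormalization_fromNormalization, hh]
  have hpb := Groth.Agent.Sga4h.H912.NormCover.isPullback_of_finite π (W.ι ≫ i)
    h.toNormalization h.fromNormalization hw
  generalize h.toNormalization = a at *
  generalize h.fromNormalization = ρ at *
  generalize h.normalization = B at *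
  -- the normalization of `X`
  have hY := IsPullback.of_hasPullback ρ i
  have hl : (a : V ⟶ B) ≫ ρ = (π ≫ W.ι) ≫ i := by rw [hw, Category.assoc]
  have hVY : IsPullback (hY.lift a (π ≫ W.ι) hl) π (pullback.snd ρ i) W.ι := by
    refine IsPullback.of_right (h₁₂ := pullback.fst ρ i) (h₂₂ := i) (v₁₃ := ρ) ?_
      (hY.lift_snd _ _ _) hY
    rw [hY.lift_fst]
    exact hpb
  obtain ⟨Y, jY, ν, hY', l, hla, hVY', hjY, hνf⟩ : ∃ (Y : Scheme.{u}) (jY : Y ⟶ B) (ν : Y ⟶ X)
      (_ : IsPullback jY ν ρ i) (l : V ⟶ Y), l ≫ jY = a ∧ IsPullback l π ν W.ι ∧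
      IsOpenImmersion jY ∧ IsFinite ν :=
    ⟨_, _, _, hY, _, hY.lift_fst _ _ _, hVY, inferInstance, inferInstance⟩
  clear hVY hY
  -- the Stein factorization
  have p1 : IsProper (ρ ≫ g) := inferInstance
  have p2 : LocallyOfFinitePresentation (ρ ≫ g) := inferInstance
  have p3 : Flat (ρ ≫ g) := inferInstance
  have p4 : GeometricallyReduced (ρ ≫ g) := by
    let _ : B.Over (Spec (CommRingCat.of k)) := ⟨ρ ≫ g⟩
    have hsB : Smooth (B ↘ (Spec (CommRingCat.of k))) := n4
    exact (Groth.Agent.S1628.result k B).1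
  have t1 : Etale (ρ ≫ g).fromNormalization := Groth.Agent.S7857.etale_fromNormalization (ρ ≫ g)
  have t2 : GeometricallyConnected (ρ ≫ g).toNormalization := (Groth.Agent.S0388.result (ρ ≫ g)).1
  have t3 : IsFinite (ρ ≫ g).fromNormalization := Groth.Agent.S1297.result (ρ ≫ g)
  have t4 : (ρ ≫ g).toNormalization ≫ (ρ ≫ g).fromNormalization = ρ ≫ g :=
    Scheme.Hom.toNormalization_fromNormalization _
  generalize (ρ ≫ g).toNormalization = b at *
  generalize (ρ ≫ g).fromNormalization = t at *
  generalize (ρ ≫ g).normalization = T at *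
  have b1 : Smooth b := by
    have : Smooth (b ≫ t) := by rw [t4]; exact n4
    exact Groth.Agent.S1414.result b t
  have b2 : IsProper b := by
    have : IsProper (b ≫ t) := by rw [t4]; exact p1
    exact IsProper.of_comp b t
  have hT : DiscreteTopology T := Groth.Agent.S0658.discrete k T t
  have hjq' : QuasiCompact jY := MorphismProperty.of_isPullback hY'.flip hiq
  have hw' : ν ≫ f = jY ≫ b ≫ t := by
    rw [t4, ← hig, ← Category.assoc, ← hY'.w, Category.assoc]
  have hjd : DenseRange jY := by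
    refine Dense.mono ?_ a.denseRange
    rintro _ ⟨x, rfl⟩
    exact ⟨l x, by rw [← Scheme.Hom.comp_apply, hla]⟩
  have hsY : Surjective (jY ≫ b) := by
    have h7 : DenseRange (jY ≫ b) := by
      have := b.surjective.denseRange.comp hjd b.continuous
      have e : (b ∘ jY : Y → T) = (jY ≫ b : Y ⟶ T) := by
        ext x
        simp
      rwa [e] at this
    refine ⟨fun x => ?_⟩
    have := h7 x
    rw [closure_discrete] at this
    exact this
  have hfp' : FP (⟨T, B, Y, t, b, jY, ν, W, hw'⟩ : Dat f) := by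
    refine ⟨(fpm_iff _).2 ⟨inferInstance, inferInstance, inferInstance⟩,
      (fpm_iff _).2 ⟨?_, ?_, ?_⟩, (fpm_iff _).2 ⟨?_, ?_, ?_⟩, (fpm_iff _).2 ⟨?_, ?_, ?_⟩,
      (fpm_iff _).2 ⟨inferInstance, inferInstance, inferInstance⟩⟩
    all_goals dsimp only; infer_instance
  have hVW : ∀ x : Y, ν x ∈ W → x ∈ Set.range l := by
    intro x hx
    obtain ⟨v, hv, -⟩ := Scheme.exists_preimage_of_isPullback hVY' x ⟨ν x, hx⟩ rfl
    exact ⟨v, hv⟩
  have hWV : ∀ v : V, ν (l v) = W.ι (π v) := by
    intro v
    rw [← Scheme.Hom.comp_apply, hVY'.w, Scheme.Hom.comp_apply]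
  have hνs : Surjective ν := by
    have h8 : IsClosed (Set.range ν) := ν.isClosedMap.isClosed_range
    have h9 : (W : Set X) ⊆ Set.range ν := by
      intro x hx
      obtain ⟨v, hv⟩ := hπ2.surj ⟨x, hx⟩
      refine ⟨l v, ?_⟩
      rw [hWV, hv]
      rfl
    have h10 := (hWd.mono h9).closure_eq
    rw [h8.closure_eq] at h10
    exact ⟨Set.range_eq_univ.1 h10⟩
  have hνd : Dense (ν ⁻¹' (W : Set X)) := by
    have h8 : Dense (jY ⁻¹' (Set.range a)) := a.denseRange.preimage jY.isOpenEmbedding.isOpenMap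
    refine h8.mono ?_
    rintro x ⟨v, hv⟩
    have h9 : l v = x := by
      apply jY.isOpenEmbedding.injective
      rw [← Scheme.Hom.comp_apply, hla, hv]
    subst h9
    change ν (l v) ∈ W
    rw [hWV]
    exact (π v).2
  have hnil : Nil (ν ∣_ W) := by
    have hN : MorphismProperty.IsStableUnderBaseChange Nil.{u} :=
      MorphismProperty.IsStableUnderBaseChange.inf (P := @IsClosedImmersion) (Q := @Surjective)
    have h8 := (isPullback_morphismRestrict ν W).flip
    have h9 : IsPullback (hVY'.lift _ _ h8.w) (ν ∣_ W) π (𝟙 _) := by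
      refine IsPullback.of_right (h₁₂ := l) (h₂₂ := W.ι) (v₁₃ := ν) ?_
        (by rw [hVY'.lift_snd, Category.comp_id]) hVY'
      rw [hVY'.lift_fst, Category.id_comp]
      exact h8
    exact MorphismProperty.of_isPullback (P := Nil) h9 ⟨hπ1, hπ2⟩
  refine ⟨⟨T, B, Y, t, b, jY, ν, W, hw'⟩, ⟨hfp', ?_⟩, ⟨hfp', ?_⟩, t3, t1, b1, b2, hjY, hsY, hνf,
    hνs, hnil⟩
  · intro s
    change Dense (f.fiberι s ⁻¹' (W : Set X))
    rw [dense_fiber_iff]
    have : f ⁻¹' {s} = Set.univ := by
      ext x
      simp only [Set.mem_preimage, Set.mem_singleton_iff, Set.mem_univ, iff_true]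
      have : Subsingleton (Spec (CommRingCat.of k)) :=
        inferInstanceAs (Subsingleton (PrimeSpectrum k))
      exact Subsingleton.elim _ _
    rw [this, Set.inter_univ, hWd.closure_eq]
  · intro s x _
    refine ⟨?_, ?_, ?_⟩
    · exact Groth.Agent.Ega43.GeomFibre.nGeomConnComp_eq_one b x inferInstance
    · exact (b.fiberι x).isEmbedding.isInducing.topologicalKrullDim_le.trans n5
    · change Dense ((jY ≫ b).fiberι x ⁻¹' (ν ⁻¹' (W : Set X)))
      rw [dense_fiber_iff]
      intro y hy
      have h8 : IsOpen ((jY ≫ b) ⁻¹' {x}) := (isOpen_discrete _).preimage (jY ≫ b).continuous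
      rw [mem_closure_iff]
      intro O hO hyO
      obtain ⟨z, ⟨hz1, hz2⟩, hz3⟩ := mem_closure_iff.1 (hνd y) (O ∩ (jY ≫ b) ⁻¹' {x})
        (hO.inter h8) ⟨hyO, hy⟩
      exact ⟨z, hz1, hz3, hz2⟩

end K835.CurveModel
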