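import Groth.Agent.FlatMor.K835.Dat
import Groth.Agent.Ega43.LimSurj

/-!
# Descent of properties of data

Predicates on data which are stable under base change and pass from a cofiltered limit to a stage.
-/

set_option autoImplicit false
universe u
open CategoryTheory CategoryTheory.Limits AlgebraicGeometry Topology

namespace K835.CurveModel

open Groth.Agent.Ega43.LimDesc (Descends)
open Groth.Agent.CalgA.LimFP
open K835.Stage K835.Ref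

/-- Finitely presented morphisms. -/
def fpm : MorphismProperty Scheme.{u} :=
  @LocallyOfFinitePresentation ⊓ @QuasiCompact ⊓ @QuasiSeparated

theorem fpm_iff {X Y : Scheme.{u}} (f : X ⟶ Y) :
    fpm f ↔ LocallyOfFinitePresentation f ∧ QuasiCompact f ∧ QuasiSeparated f :=
  ⟨fun h => ⟨h.1.1, h.1.2, h.2⟩, fun h => ⟨⟨h.1, h.2.1⟩, h.2.2⟩⟩

theorem fpm_comp {X Y Z : Scheme.{u}} {f : X ⟶ Y} {g : Y ⟶ Z} (hf : fpm f) (hg : fpm g) :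
    fpm (f ≫ g) := by
  obtain ⟨h1, h2, h3⟩ := (fpm_iff f).1 hf
  obtain ⟨h4, h5, h6⟩ := (fpm_iff g).1 hg
  exact (fpm_iff _).2 ⟨inferInstance, inferInstance, inferInstance⟩

theorem fpm_of_isPullback {X Y X' Y' : Scheme.{u}} {q : X' ⟶ X} {f' : X' ⟶ Y'} {f : X ⟶ Y}
    {g : Y' ⟶ Y} (h : IsPullback q f' f g) (hf : fpm f) : fpm f' := by
  obtain ⟨h1, h2, h3⟩ := (fpm_iff f).1 hf
  exact (fpm_iff _).2 ⟨MorphismProperty.of_isPullback h h1, MorphismProperty.of_isPullback h h2,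
    MorphismProperty.of_isPullback h h3⟩

/-- Data of finite presentation. -/
structure FP {X S : Scheme.{u}} {f : X ⟶ S} (d : Dat f) : Prop where
  hf : fpm f
  ht : fpm d.t
  hb : fpm d.b
  hj : fpm d.j
  hW : fpm d.W.ι

/-- Predicates on data. -/
abbrev DProp := ∀ {X S : Scheme.{u}} {f : X ⟶ S}, Dat f → Prop

/-- Stability under base change. -/
def Stable (P : DProp.{u}) : Prop :=
  ∀ ⦃X S X' S' : Scheme.{u}⦄ ⦃f : X ⟶ S⦄ ⦃f' : X' ⟶ S'⦄ ⦃q : X' ⟶ X⦄ ⦃g : S' ⟶ S⦄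
    (h : IsPullback q f' f g) (d' : Dat f') (d : Dat f), Cart h d' d → P d → P d'

/-- Passage to a stage of a limit. -/
def Desc (P : DProp.{u}) : Prop :=
  ∀ ⦃I : Type u⦄ [SmallCategory I] [IsCofiltered I] (D : I ⥤ Scheme.{u}) (c : Cone D)
    (_ : IsLimit c) [∀ (i j : I) (f : i ⟶ j), IsAffineHom (D.map f)]
    [∀ i, CompactSpace (D.obj i)] [∀ i, QuasiSeparatedSpace (D.obj i)] (i₀ : I)
    {X₀ : Scheme.{u}} (f₀ : X₀ ⟶ D.obj i₀) (d₀ : Dat f₀) (_ : FP d₀) {X : Scheme.{u}}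
    {f : X ⟶ c.pt} {q : X ⟶ X₀} (h : IsPullback q f f₀ (c.π.app i₀)) (d : Dat f)
    (_ : Cart h d d₀) (_ : P d),
    ∃ (i : I) (φ : i ⟶ i₀), ∀ {X₁ : Scheme.{u}} {f₁ : X₁ ⟶ D.obj i} {q₁ : X₁ ⟶ X₀}
      (h₁ : IsPullback q₁ f₁ f₀ (D.map φ)) (d₁ : Dat f₁) (_ : Cart h₁ d₁ d₀), P d₁

/-- If `P` holds over a stage then it holds over the later ones. -/
theorem Stable.up {P : DProp.{u}} (hP : Stable P) {I : Type u} [SmallCategory I]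
    {D : I ⥤ Scheme.{u}} {i₀ i k : I} {φ : i ⟶ i₀} {X₀ : Scheme.{u}} {f₀ : X₀ ⟶ D.obj i₀}
    {d₀ : Dat f₀} (H : ∀ {X₁ : Scheme.{u}} {f₁ : X₁ ⟶ D.obj i} {q₁ : X₁ ⟶ X₀}
      (h₁ : IsPullback q₁ f₁ f₀ (D.map φ)) (d₁ : Dat f₁) (_ : Cart h₁ d₁ d₀), P d₁)
    (a : k ⟶ i) (ψ : k ⟶ i₀) (ha : a ≫ φ = ψ) {X₁ : Scheme.{u}} {f₁ : X₁ ⟶ D.obj k}
    {q₁ : X₁ ⟶ X₀} (h₁ : IsPullback q₁ f₁ f₀ (D.map ψ)) (d₁ : Dat f₁) (c₁ : Cart h₁ d₁ d₀) :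
    P d₁ := by
  have hg : D.map a ≫ D.map φ = D.map ψ := by rw [← D.map_comp, ha]
  have h₂ := IsPullback.of_hasPullback f₀ (D.map φ)
  have e : q₁ ≫ f₀ = (f₁ ≫ D.map a) ≫ D.map φ := by rw [Category.assoc, hg, h₁.w]
  have h₃ : IsPullback (h₂.lift q₁ (f₁ ≫ D.map a) e) f₁ (pullback.snd f₀ (D.map φ))
      (D.map a) := by
    refine IsPullback.of_right (h₁₂ := pullback.fst f₀ (D.map φ)) (h₂₂ := D.map φ)
      (v₁₃ := f₀) ?_ (h₂.lift_snd _ _ _) h₂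
    rw [h₂.lift_fst, hg]
    exact h₁
  exact hP h₃ d₁ (d₀.bc h₂) (Cart.lift (h₁₂ := h₃) (h₂.lift_fst _ _ _) hg c₁ (d₀.bcCart h₂))
    (H h₂ _ (d₀.bcCart h₂))

theorem Stable.and {P Q : DProp.{u}} (hP : Stable P) (hQ : Stable Q) :
    Stable (fun d => P d ∧ Q d) :=
  fun _ _ _ _ _ _ _ _ h d' d c hd => ⟨hP h d' d c hd.1, hQ h d' d c hd.2⟩

theorem Desc.and {P Q : DProp.{u}} (hP : Desc P) (hQ : Desc Q) (sP : Stable P) (sQ : Stable Q) :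
    Desc (fun d => P d ∧ Q d) := by
  intro I _ _ D c hc _ _ _ i₀ X₀ f₀ d₀ hFP X f q h d cd hd
  obtain ⟨i, φ, hi⟩ := hP D c hc i₀ f₀ d₀ hFP h d cd hd.1
  obtain ⟨i', φ', hi'⟩ := hQ D c hc i₀ f₀ d₀ hFP h d cd hd.2
  obtain ⟨k, a, b, -⟩ := IsCofilteredOrEmpty.cone_objs i i'
  obtain ⟨l, m, hm⟩ : ∃ (l : I) (m : l ⟶ k), m ≫ a ≫ φ = m ≫ b ≫ φ' :=
    ⟨IsCofiltered.eq (a ≫ φ) (b ≫ φ'), IsCofiltered.eqHom _ _, IsCofiltered.eq_condition _ _⟩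
  refine ⟨l, m ≫ a ≫ φ, fun h₁ d₁ c₁ => ⟨?_, ?_⟩⟩
  · exact sP.up hi (m ≫ a) _ (by rw [Category.assoc]) h₁ d₁ c₁
  · exact sQ.up hi' (m ≫ b) _ (by rw [Category.assoc, hm]) h₁ d₁ c₁

/-- A functorial choice of a morphism over the base. -/
structure Sel where
  A : ∀ {X S : Scheme.{u}} {f : X ⟶ S}, Dat f → Scheme.{u}
  B : ∀ {X S : Scheme.{u}} {f : X ⟶ S}, Dat f → Scheme.{u}
  k : ∀ {X S : Scheme.{u}} {f : X ⟶ S} (d : Dat f), A d ⟶ B d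
  g : ∀ {X S : Scheme.{u}} {f : X ⟶ S} (d : Dat f), B d ⟶ S
  cart : ∀ {X S X' S' : Scheme.{u}} {f : X ⟶ S} {f' : X' ⟶ S'} {q : X' ⟶ X} {g₀ : S' ⟶ S}
    {h : IsPullback q f' f g₀} {d' : Dat f'} {d : Dat f} (_ : Cart h d' d),
    ∃ (pA : A d' ⟶ A d) (pB : B d' ⟶ B d), IsPullback pB (g d') (g d) g₀ ∧
      IsPullback pA (k d') (k d) pB
  fp : ∀ {X S : Scheme.{u}} {f : X ⟶ S} (d : Dat f), FP d → fpm (g d) ∧ fpm (k d ≫ g d)

theorem Sel.stable (K : Sel.{u}) (P : MorphismProperty Scheme.{u}) [P.IsStableUnderBaseChange] :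
    Stable (fun d => P (K.k d)) := by
  intro X S X' S' f f' q g h d' d c hd
  obtain ⟨pA, pB, -, h2⟩ := K.cart c
  exact P.of_isPullback h2 hd

theorem Sel.desc (K : Sel.{u}) {P : MorphismProperty Scheme.{u}} [P.IsStableUnderBaseChange]
    (hP : Descends P) : Desc (fun d => P (K.k d)) := by
  intro I _ _ D c hc _ _ _ i₀ X₀ f₀ d₀ hFP X f q h d cd hd
  have hPi : P.RespectsIso := MorphismProperty.IsStableUnderBaseChange.respectsIso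
  obtain ⟨⟨h1, h2, h3⟩, h4, h5, h6⟩ := (K.fp d₀ hFP).imp (fpm_iff _).1 (fpm_iff _).1
  obtain ⟨pA, pB, hB, hA⟩ := K.cart cd
  obtain ⟨i, φ, Xi, Yi, fi, gi, pY, pX, hY, hX, hfi⟩ :=
    Groth.Agent.Ega43.LimDesc.Descends.result hP D c hc i₀ (K.k d₀) (K.g d₀) (K.k d) (K.g d)
      pB pA hB hA hd
  refine ⟨i, φ, fun {X₁ f₁ q₁} h₁ d₁ c₁ => ?_⟩
  obtain ⟨pA₁, pB₁, hB₁, hA₁⟩ := K.cart c₁
  exact of_isPullback_of_isPullback hX hA₁ (hY.lift pB₁ (K.g d₁) hB₁.w) (hY.lift_fst _ _ _) hfi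

/-- A fibrewise predicate. -/
structure Fib where
  Pt : ∀ {X S : Scheme.{u}} {f : X ⟶ S} (_ : Dat f), S → Prop
  cart : ∀ {X S X' S' : Scheme.{u}} {f : X ⟶ S} {f' : X' ⟶ S'} {q : X' ⟶ X} {g₀ : S' ⟶ S}
    {h : IsPullback q f' f g₀} {d' : Dat f'} {d : Dat f} (_ : FP d) (_ : Cart h d' d) (s' : S'),
    Pt d' s' ↔ Pt d (g₀ s')
  constr : ∀ {X S : Scheme.{u}} {f : X ⟶ S} (d : Dat f), FP d →
    IsLocallyConstructible {s : S | Pt d s}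

/-- Finite presentation is stable under base change. -/
theorem stable_FP : Stable (fun d => FP d) := by
  intro X S X' S' f f' q g h d' d c hd
  refine ⟨fpm_of_isPullback h hd.hf, fpm_of_isPullback c.hT hd.ht, fpm_of_isPullback c.hB hd.hb,
    fpm_of_isPullback c.hY hd.hj, ?_⟩
  have h1 : IsPullback (q ∣_ d.W) (q ⁻¹ᵁ d.W).ι d.W.ι q := isPullback_morphismRestrict q d.W
  rw [c.hW]
  exact fpm_of_isPullback h1 hd.hW

theorem Fib.stable (K : Fib.{u}) : Stable (fun d => FP d ∧ ∀ s, K.Pt d s) := by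
  intro X S X' S' f f' q g h d' d c hd
  exact ⟨stable_FP h d' d c hd.1, fun s' => (K.cart hd.1 c s').2 (hd.2 _)⟩

theorem Fib.desc (K : Fib.{u}) : Desc (fun d => FP d ∧ ∀ s, K.Pt d s) := by
  intro I _ _ D c hc _ _ _ i₀ X₀ f₀ d₀ hFP X f q h d cd hd
  have h1 : IsLocallyConstructible {s : D.obj i₀ | K.Pt d₀ s} := K.constr d₀ hFP
  have h2 : IsConstructible ({s : D.obj i₀ | K.Pt d₀ s}ᶜ) := h1.isConstructible.compl
  obtain ⟨i, φ, hi⟩ := Groth.Agent.Ega43.LimSurj.exists_preimage_eq_empty_of_isConstructible D c hc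
    i₀ _ h2 (by
      rw [Set.eq_empty_iff_forall_notMem]
      intro s hs
      exact hs ((K.cart hFP cd s).1 (hd.2 s)))
  refine ⟨i, φ, fun {X₁ f₁ q₁} h₁ d₁ c₁ => ⟨stable_FP h₁ d₁ d₀ c₁ hFP, fun s => ?_⟩⟩
  rw [K.cart hFP c₁]
  by_contra hs
  have : s ∈ (D.map φ ⁻¹' {s : D.obj i₀ | K.Pt d₀ s}ᶜ : Set (D.obj i)) := hs
  rw [hi] at this
  exact this

end K835.CurveModel
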