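import Groth.Agent.FlatMor.K835.FibDense
import Groth.Agent.Ega43.LimUnivInj
import Groth.Agent.Ega43.LimCompare
import Groth.Agent.Ega43.LimitDescendCompare
import Groth.Agent.Ega43.LimitDescendOpen
import Groth.Agent.Sga3.H806.SmoothDescend
import Groth.Agent.S5941
import Groth.Agent.S1333
import Groth.Agent.S1339

/-!
# Good data

The properties required of a smooth model of a family of curves, and their descent to a stage of a
cofiltered limit.
-/

set_option autoImplicit false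
universe u
open CategoryTheory CategoryTheory.Limits AlgebraicGeometry Topology

namespace K835.CurveModel

open Groth.Agent.Ega43.LimDesc (Descends)
open Groth.Agent.CalgA.LimFP
open K835.Stage K835.Ref

theorem descends_smooth : Descends @Smooth.{u} :=
  descends_of_descendsAffine (Q := @LocallyOfFinitePresentation ⊓ @QuasiCompact)
    (fun _ _ _ => ⟨inferInstance, inferInstance⟩)
    Groth.Agent.Sga3.H806.SmoothDescend.descendsAffine_smooth

theorem descends_isOpenImmersion : Descends @IsOpenImmersion.{u} :=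
  Groth.Agent.Ega43.LimitDescendCompare.descends_of_descendsLim
    Groth.Agent.Ega43.LimitDescendOpen.descendsLim_isOpenImmersion

theorem descends_etale : Descends @Etale.{u} := by
  intro I _ _ D c hc _ _ _ i₀ X₀ f₀ _ _ _ X q f h hf
  have : CompactSpace X₀ := QuasiCompact.compactSpace_of_compactSpace f₀
  have h1 : LocallyOfFinitePresentation (f₀ ≫ 𝟙 (D.obj i₀)) := by
    rw [Category.comp_id]; infer_instance
  have h2 : IsPullback (c.π.app i₀) (𝟙 _) (𝟙 (D.obj i₀)) (c.π.app i₀) := IsPullback.of_id_snd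
  obtain ⟨j, φ, Xj, Yj, fj, gj, pY, pX, hY, hX, hfj⟩ := (Groth.Agent.S5941.result D c hc i₀ f₀
    (𝟙 (D.obj i₀)) f (𝟙 c.pt) (c.π.app i₀) q h2 h).1 hf
  have hgj : IsIso gj := by
    have : MorphismProperty.isomorphisms Scheme.{u} gj :=
      MorphismProperty.of_isPullback (P := MorphismProperty.isomorphisms Scheme.{u}) hY
        (by change IsIso _; infer_instance)
    exact this
  refine ⟨j, φ, Xj, pX, fj ≫ gj, ?_, inferInstance⟩
  have := hX.paste_vert hY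
  rwa [Category.comp_id] at this

/-- The structure morphism of the constants. -/
def selT : Sel.{u} where
  A d := d.T
  B {_ S _} _ := S
  k d := d.t
  g {_ S _} _ := 𝟙 S
  cart c := ⟨c.pT, _, IsPullback.of_vert_isIso ⟨by simp⟩, c.hT⟩
  fp d hd := ⟨(fpm_iff _).2 ⟨inferInstance, inferInstance, inferInstance⟩, by
    rw [Category.comp_id]; exact hd.ht⟩

/-- The compactification over the constants. -/
def selB : Sel.{u} where
  A d := d.B
  B d := d.T
  k d := d.b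
  g d := d.t
  cart c := ⟨c.pB, c.pT, c.hT, c.hB⟩
  fp _ hd := ⟨hd.ht, fpm_comp hd.hb hd.ht⟩

/-- The inclusion in the compactification. -/
def selJ : Sel.{u} where
  A d := d.Y
  B d := d.B
  k d := d.j
  g d := d.b ≫ d.t
  cart c := ⟨c.pY, c.pB, c.hB.paste_vert c.hT, c.hY⟩
  fp _ hd := ⟨fpm_comp hd.hb hd.ht, fpm_comp hd.hj (fpm_comp hd.hb hd.ht)⟩

/-- The normalization over the constants. -/
def selY : Sel.{u} where
  A d := d.Y
  B d := d.T
  k d := d.j ≫ d.b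
  g d := d.t
  cart c := ⟨c.pY, c.pT, c.hT, c.hYT⟩
  fp _ hd := ⟨hd.ht, fpm_comp (fpm_comp hd.hj hd.hb) hd.ht⟩

/-- The normalization morphism. -/
def selN : Sel.{u} where
  A d := d.Y
  B {X _ _} _ := X
  k d := d.ν
  g {_ _ f} _ := f
  cart {_ _ _ _ _ _ _ _ h _ _} c := ⟨c.pY, _, h, c.hν'⟩
  fp d hd := ⟨hd.hf, by rw [d.w]; exact fpm_comp hd.hj (fpm_comp hd.hb hd.ht)⟩

theorem exists_isPullback_restrict {X S X' S' : Scheme.{u}} {f : X ⟶ S} {f' : X' ⟶ S'}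
    {q : X' ⟶ X} {g₀ : S' ⟶ S} {h : IsPullback q f' f g₀} {d' : Dat f'} {d : Dat f}
    (c : Cart h d' d) :
    ∃ (pA : ((d'.ν ⁻¹ᵁ d'.W : d'.Y.Opens) : Scheme.{u}) ⟶ ((d.ν ⁻¹ᵁ d.W : d.Y.Opens) : Scheme.{u}))
      (pB : (d'.W : Scheme.{u}) ⟶ (d.W : Scheme.{u})),
      IsPullback pB (d'.W.ι ≫ f') (d.W.ι ≫ f) g₀ ∧
        IsPullback pA (d'.ν ∣_ d'.W) (d.ν ∣_ d.W) pB := by
  obtain ⟨T', B', Y', t', b', j', ν', W', w'⟩ := d'
  obtain rfl : W' = q ⁻¹ᵁ d.W := c.hW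
  obtain ⟨pY, h4, hν⟩ : ∃ pY : Y' ⟶ d.Y, IsPullback pY ν' d.ν q ∧ pY ≫ d.ν = ν' ≫ q :=
    ⟨c.pY, c.hν', c.hν⟩
  dsimp only
  have h1 : IsPullback (q ∣_ d.W) (q ⁻¹ᵁ d.W).ι d.W.ι q := isPullback_morphismRestrict q d.W
  have h2 : IsPullback (d.ν ∣_ d.W) (d.ν ⁻¹ᵁ d.W).ι d.W.ι d.ν := isPullback_morphismRestrict _ _
  have h3 : IsPullback (ν' ∣_ (q ⁻¹ᵁ d.W)) (ν' ⁻¹ᵁ (q ⁻¹ᵁ d.W)).ι (q ⁻¹ᵁ d.W).ι ν' :=
    isPullback_morphismRestrict _ _
  have h5 : IsPullback (ν' ∣_ (q ⁻¹ᵁ d.W) ≫ q ∣_ d.W) (ν' ⁻¹ᵁ (q ⁻¹ᵁ d.W)).ι d.W.ι (ν' ≫ q) :=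
    h3.paste_horiz h1
  rw [← hν] at h5
  have e : (ν' ∣_ (q ⁻¹ᵁ d.W) ≫ q ∣_ d.W) ≫ d.W.ι = ((ν' ⁻¹ᵁ (q ⁻¹ᵁ d.W)).ι ≫ pY) ≫ d.ν := by
    rw [h5.w, Category.assoc]
  have h6 : IsPullback (h2.lift _ _ e) (ν' ⁻¹ᵁ (q ⁻¹ᵁ d.W)).ι (d.ν ⁻¹ᵁ d.W).ι pY := by
    refine IsPullback.of_right (h₁₂ := d.ν ∣_ d.W) (h₂₂ := d.ν) (v₁₃ := d.W.ι) ?_
      (h2.lift_snd _ _ _) h2
    rw [h2.lift_fst]
    exact h5
  refine ⟨h2.lift _ _ e, q ∣_ d.W, h1.paste_vert h, ?_⟩
  refine IsPullback.of_bot (v₂₁ := (q ⁻¹ᵁ d.W).ι) (v₂₂ := d.W.ι) (h₃₁ := q) ?_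
    (h2.lift_fst _ _ _) h1
  rw [h2.w, h3.w]
  exact h6.paste_vert h4

/-- The restriction of the normalization morphism to `W`. -/
noncomputable def selW : Sel.{u} where
  A d := ((d.ν ⁻¹ᵁ d.W : d.Y.Opens) : Scheme.{u})
  B d := (d.W : Scheme.{u})
  k d := d.ν ∣_ d.W
  g {_ _ f} d := d.W.ι ≫ f
  cart c := exists_isPullback_restrict c
  fp {_ _ f} d hd := ⟨fpm_comp hd.hW hd.hf, by
    have h2 : IsPullback (d.ν ∣_ d.W) (d.ν ⁻¹ᵁ d.W).ι d.W.ι d.ν := isPullback_morphismRestrict _ _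
    rw [← Category.assoc, h2.w, Category.assoc, d.w]
    exact fpm_comp (fpm_of_isPullback h2 hd.hW) (fpm_comp hd.hj (fpm_comp hd.hb hd.ht))⟩

/-- Density of `W` in the fibres of `f`. -/
def fibW : Fib.{u} where
  Pt {_ _ f} d s := Dense (f.fiberι s ⁻¹' (d.W : Set _))
  cart {X S X' S' f f' q g₀ h d' d} hd c s' := by
    rw [c.hW]
    exact dense_fiber_baseChange h (d.W : Set X) s'
  constr {X S f} d hd := by
    obtain ⟨⟨h1, h2⟩, h3⟩ := hd.hf
    obtain ⟨⟨h4, h5⟩, h6⟩ := hd.hW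
    refine isLocallyConstructible_dense f ?_
    have h7 := d.W.ι.isLocallyConstructible_image IsLocallyConstructible.univ
    rwa [Set.image_univ, Scheme.Opens.range_ι] at h7

/-- The good fibres over the constants. -/
def fibT : Fib.{u} where
  Pt {_ _ _} d s := ∀ x : d.T, d.t x = s → MoreMor.nGeomConnComp d.b x = 1 ∧
    topologicalKrullDim (d.b.fiber x) ≤ 1 ∧
    Dense ((d.j ≫ d.b).fiberι x ⁻¹' (d.ν ⁻¹' (d.W : Set _)))
  cart {X S X' S' f f' q g₀ h d' d} hd c s' := by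
    have hl : LocallyOfFinitePresentation d.b := hd.hb.1.1
    have e1 : ∀ x' : d'.T, (MoreMor.nGeomConnComp d'.b x' = 1 ∧
        topologicalKrullDim (d'.b.fiber x') ≤ 1 ∧
        Dense ((d'.j ≫ d'.b).fiberι x' ⁻¹' (d'.ν ⁻¹' (d'.W : Set _)))) ↔
        (MoreMor.nGeomConnComp d.b (c.pT x') = 1 ∧
        topologicalKrullDim (d.b.fiber (c.pT x')) ≤ 1 ∧
        Dense ((d.j ≫ d.b).fiberι (c.pT x') ⁻¹' (d.ν ⁻¹' (d.W : Set _)))) := by
      intro x'
      rw [Groth.Agent.Flat2D.GeomFib.nGeomConnComp_baseChange _ _ _ _ c.hB,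
        Groth.Agent.Flat2G.ProperDim.topologicalKrullDim_fiber_baseChange _ _ _ _ c.hB,
        ← dense_fiber_baseChange c.hYT, c.hW]
      have : (c.pY ⁻¹' (d.ν ⁻¹' (d.W : Set X)) : Set d'.Y) = d'.ν ⁻¹' (q ⁻¹' (d.W : Set X)) := by
        ext y
        simp only [Set.mem_preimage]
        rw [← Scheme.Hom.comp_apply, ← Scheme.Hom.comp_apply, c.hν]
      rw [this]
      rfl
    constructor
    · intro H x hx
      obtain ⟨x', rfl, rfl⟩ := Scheme.exists_preimage_of_isPullback c.hT x s' hx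
      exact (e1 x').1 (H x' rfl)
    · intro H x' hx'
      exact (e1 x').2 (H _ (by rw [← Scheme.Hom.comp_apply, c.hT.w, Scheme.Hom.comp_apply, hx']))
  constr {X S f} d hd := by
    obtain ⟨⟨h1, h2⟩, h3⟩ := hd.hf
    obtain ⟨⟨h4, h5⟩, h6⟩ := hd.hW
    obtain ⟨⟨hb1, hb2⟩, hb3⟩ := hd.hb
    obtain ⟨⟨ht1, ht2⟩, ht3⟩ := hd.ht
    obtain ⟨⟨hj1, hj2⟩, hj3⟩ := hd.hj
    have hW : IsLocallyConstructible (d.W : Set X) := by
      have h7 := d.W.ι.isLocallyConstructible_image IsLocallyConstructible.univ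
      rwa [Set.image_univ, Scheme.Opens.range_ι] at h7
    have hW' : IsLocallyConstructible (d.ν ⁻¹' (d.W : Set X)) :=
      Groth.Agent.Ega4fib.H149.FibreTopLoc.isLocallyConstructible_preimage d.ν hW
    have c1 : IsLocallyConstructible {x : d.T | MoreMor.nGeomConnComp d.b x = 1} :=
      Groth.Agent.S1339.result d.b 1
    have c2 : IsLocallyConstructible {x : d.T | topologicalKrullDim (d.b.fiber x) ≤ 1} := by
      have h8 := Groth.Agent.S1333.isLocallyConstructible_compl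
        (Groth.Agent.S1333.isLocallyConstructible_le d.b 2)
      have e : ((2 : ℕ) : WithBot ℕ∞) = (1 : ℕ) + 1 := rfl
      have h9 : {x : d.T | topologicalKrullDim (d.b.fiber x) ≤ 1} =
          {x : d.T | ((2 : ℕ) : WithBot ℕ∞) ≤ topologicalKrullDim (d.b.fiber x)}ᶜ := by
        ext x
        change topologicalKrullDim (d.b.fiber x) ≤ 1 ↔
          ¬ ((2 : ℕ) : WithBot ℕ∞) ≤ topologicalKrullDim (d.b.fiber x)
        rw [not_le, e, ENat.WithBot.lt_add_one_iff]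
        rfl
      rw [h9]
      exact h8
    have c3 := isLocallyConstructible_dense (d.j ≫ d.b) hW'
    have c4 := Groth.Agent.S1333.isLocallyConstructible_compl (c1.inter (c2.inter c3))
    have c5 := Groth.Agent.S1333.isLocallyConstructible_compl (d.t.isLocallyConstructible_image c4)
    convert c5 using 1
    ext s
    constructor
    · rintro H ⟨x, hx, rfl⟩
      exact hx (H x rfl)
    · intro H x hx
      by_contra hx'
      exact H ⟨x, hx', hx⟩

end K835.CurveModel
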